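import Cfsg.Agent.Lib.Suborbit.Directed
import Mathlib.GroupTheory.SpecificGroups.Alternating.Simple
import Mathlib.GroupTheory.SpecificGroups.Alternating.Centralizer

/-!
# Suborbits with alternating constituent

If two conjugate subgroups `M`, `N` act on the cosets of `M ⊓ N` at least as alternating groups of
degree `m + 1`, and one second core is trivial, then the two first cores meet trivially and the
groups are known.
-/

set_option autoImplicit false

namespace Cfsg.Agent.SuborbitAlt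

open Subgroup Equiv

variable {m : ℕ}

local notation "Alt" m => alternatingGroup (Fin m)

/-- The centraliser of the alternating group in the symmetric group is trivial. -/
theorem alt_centralizer (hm : 4 ≤ m) {x : Perm (Fin m)}
    (h : ∀ y ∈ Alt m, x * y = y * x) : x = 1 := by
  refine Perm.ext fun a => ?_
  by_contra hb
  rw [Perm.one_apply] at hb
  obtain ⟨c, -, hc⟩ := Finset.exists_mem_notMem_of_card_lt_card (s := ({a, x a} : Finset (Fin m)))
    (t := Finset.univ) (by rw [Finset.card_univ, Fintype.card_fin]; have := Finset.card_le_two (a := a) (b := x a); omega)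
  obtain ⟨d, -, hd⟩ := Finset.exists_mem_notMem_of_card_lt_card (s := ({a, x a, c} : Finset (Fin m)))
    (t := Finset.univ) (by rw [Finset.card_univ, Fintype.card_fin]; have := Finset.card_le_three (a := a) (b := x a) (c := c); omega)
  simp only [Finset.mem_insert, Finset.mem_singleton, not_or] at hc hd
  set σ : Perm (Fin m) := swap (x a) c * swap (x a) d
  have hσ : σ ∈ Alt m :=
    (Perm.isThreeCycle_swap_mul_swap_same (Ne.symm hc.2) (Ne.symm hd.2.1) (Ne.symm hd.2.2)).mem_alternatingGroup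
  have h1 := congrArg (fun p : Perm (Fin m) => p a) (h σ hσ)
  simp only [σ, Perm.mul_apply, swap_apply_left] at h1
  rw [swap_apply_of_ne_of_ne (Ne.symm hb) (Ne.symm hd.1),
    swap_apply_of_ne_of_ne (Ne.symm hb) (Ne.symm hc.1),
    swap_apply_of_ne_of_ne hd.2.1 hd.2.2] at h1
  exact hd.2.1 h1.symm

/-- The alternating group is its own derived group. -/
theorem alt_commutator (hm : 5 ≤ m) : ⁅(Alt m), (Alt m)⁆ = Alt m := by
  have h := congrArg (Subgroup.map (alternatingGroup (Fin m)).subtype)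
    (commutator_alternatingGroup_eq_top (α := Fin m) (by simpa using hm))
  rwa [_root_.commutator_def, map_commutator, ← MonoidHom.range_eq_map, range_subtype] at h

/-- A subgroup normalised by the alternating group is trivial or contains it. -/
theorem normal_cases (hm : 5 ≤ m) (P : Subgroup (Perm (Fin m)))
    (hP : (Alt m) ≤ normalizer (P : Set (Perm (Fin m)))) : P = ⊥ ∨ (Alt m) ≤ P := by
  haveI : (P.subgroupOf (Alt m)).Normal := normal_subgroupOf_of_le_normalizer hP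
  rcases alternatingGroup.normal_subgroup_eq_bot_or_eq_top (by simpa using hm)
      (N := P.subgroupOf (Alt m)) with h | h
  · refine Or.inl ((eq_bot_iff_forall _).2 fun x hx => alt_centralizer (by omega) fun y hy => ?_)
    have h1 : x * y * x⁻¹ * y⁻¹ ∈ P := by
      rw [show x * y * x⁻¹ * y⁻¹ = x * (y * x⁻¹ * y⁻¹) by group]
      exact mul_mem hx ((mem_normalizer_iff.1 (hP hy) _).1 (inv_mem hx))
    have h2 : x * y * x⁻¹ * y⁻¹ ∈ Alt m :=
      mul_mem (Normal.conj_mem inferInstance y hy x) (inv_mem hy)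
    have h3 : (⟨_, h2⟩ : Alt m) ∈ P.subgroupOf (Alt m) := h1
    rw [h, mem_bot] at h3
    have h4 : x * y * x⁻¹ * y⁻¹ = 1 := congrArg Subtype.val h3
    calc x * y = (x * y * x⁻¹ * y⁻¹) * (y * x) := by group
      _ = y * x := by rw [h4, one_mul]
  · exact Or.inr (subgroupOf_eq_top.1 h)

/-- A homomorphism onto an alternating group of degree `m + 1` does not collapse on the kernel of
a homomorphism to `Perm (Fin m)`. -/
theorem big_ker {X : Type*} [Group X] [Finite X] (hm : 5 ≤ m) (φ : X →* Perm (Fin (m + 1)))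
    (Y : Subgroup X) (hY : (Alt (m + 1)) ≤ Y.map φ) (h : Y →* Perm (Fin m)) :
    (Alt (m + 1)) ≤ (h.ker.map Y.subtype).map φ := by
  have hn : (Alt (m + 1)) ≤ normalizer (((h.ker.map Y.subtype).map φ : Subgroup _) : Set _) := by
    intro σ hσ
    obtain ⟨y, hy, rfl⟩ := hY hσ
    refine le_normalizer_map φ ⟨y, ?_, rfl⟩
    refine le_normalizer_map Y.subtype ⟨⟨y, hy⟩, ?_, rfl⟩
    rw [Subgroup.normalizer_eq_top]; exact mem_top _
  refine (normal_cases (by omega) _ hn).resolve_left fun hbot => ?_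
  have hle : h.ker ≤ (φ.comp Y.subtype).ker := by
    intro y hy
    rw [MonoidHom.mem_ker]
    have : φ (y : X) ∈ (h.ker.map Y.subtype).map φ := ⟨y, ⟨y, hy, rfl⟩, rfl⟩
    rwa [hbot, mem_bot] at this
  have h1 : Nat.card (φ.comp Y.subtype).range ∣ Nat.card h.range := by
    rw [← index_ker, ← index_ker]; exact index_dvd_of_le hle
  have h2 : Nat.card h.range ∣ m.factorial := by
    have := card_subgroup_dvd_card h.range
    rwa [Nat.card_perm, Nat.card_fin] at this
  have h3 : Nat.card (Alt (m + 1)) ≤ Nat.card (φ.comp Y.subtype).range := by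
    refine card_le_of_le ?_
    rwa [MonoidHom.range_comp, range_subtype]
  haveI : Nontrivial (Fin (m + 1)) := Fin.nontrivial_iff_two_le.2 (by omega)
  have h4 := two_mul_nat_card_alternatingGroup (α := Fin (m + 1))
  rw [Nat.card_perm, Nat.card_fin, Nat.factorial_succ] at h4
  have h5 := Nat.le_of_dvd (Nat.factorial_pos m) (h1.trans h2)
  have h6 := Nat.factorial_pos m
  nlinarith

/-- A group embedded in a product of groups of degree `m` has no image containing the alternating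
group of degree `m + 1`. -/
theorem no_big_image {X : Type*} [Group X] [Finite X] (hm : 5 ≤ m) {ι : Type*} [Fintype ι]
    (h : ι → (X →* Perm (Fin m))) (hker : ∀ x, (∀ i, h i x = 1) → x = 1)
    (φ : X →* Perm (Fin (m + 1))) : ¬ (Alt (m + 1)) ≤ φ.range := by
  classical
  intro hφ
  have key : ∀ s : Finset ι, (Alt (m + 1)) ≤ (⨅ i ∈ s, (h i).ker).map φ := by
    intro s
    induction s using Finset.induction_on with
    | empty => simpa [← MonoidHom.range_eq_map] using hφ
    | insert i s _ ih =>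
      refine (big_ker hm φ _ ih ((h i).comp (⨅ j ∈ s, (h j).ker).subtype)).trans
        (Subgroup.map_mono ?_)
      rintro _ ⟨y, hy, rfl⟩
      rw [Finset.iInf_insert]
      exact ⟨hy, y.2⟩
  have hbot : (⨅ i ∈ (Finset.univ : Finset ι), (h i).ker) = ⊥ := by
    rw [eq_bot_iff]
    intro x hx
    simp only [Finset.mem_univ, iInf_pos, mem_iInf, MonoidHom.mem_ker] at hx
    exact mem_bot.2 (hker x hx)
  have h1 := key Finset.univ
  rw [hbot, Subgroup.map_bot] at h1
  haveI : Nontrivial (Alt (m + 1)) :=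
    alternatingGroup.nontrivial_of_three_le_card (by rw [Nat.card_fin]; omega)
  exact (Subgroup.nontrivial_iff_ne_bot _).1 this (le_bot_iff.1 h1)

section res

/-- Restriction of a permutation fixing `0` to the other points. -/
def res (m : ℕ) : MulAction.stabilizer (Perm (Fin (m + 1))) (0 : Fin (m + 1)) →* Perm (Fin m) where
  toFun σ := (finSuccAboveEquiv (0 : Fin (m + 1))).symm.permCongr
    ((σ : Perm (Fin (m + 1))).subtypePerm fun _ =>
      not_congr ⟨fun h => σ.1.injective (h.trans (MulAction.mem_stabilizer_iff.1 σ.2).symm),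
        fun h => by rw [h]; exact MulAction.mem_stabilizer_iff.1 σ.2⟩)
  map_one' := by ext; simp
  map_mul' σ τ := by ext; simp

theorem res_injective : Function.Injective (res m) := by
  intro σ τ h
  simp only [res, MonoidHom.coe_mk, OneHom.coe_mk] at h
  have h' := (Equiv.permCongr _).injective h
  refine Subtype.ext (Perm.ext fun x => ?_)
  by_cases hx : x = 0
  · subst hx
    exact (MulAction.mem_stabilizer_iff.1 σ.2).trans (MulAction.mem_stabilizer_iff.1 τ.2).symm
  · exact congrArg Subtype.val (congrArg (fun p : Perm {y : Fin (m + 1) // y ≠ 0} => p ⟨x, hx⟩) h')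

theorem sign_res (σ : MulAction.stabilizer (Perm (Fin (m + 1))) (0 : Fin (m + 1))) :
    Perm.sign (res m σ) = Perm.sign (σ : Perm (Fin (m + 1))) := by
  simp only [res, MonoidHom.coe_mk, OneHom.coe_mk, Perm.sign_permCongr]
  refine Perm.sign_subtypePerm _ _ fun x hx e => hx ?_
  rw [e]; exact MulAction.mem_stabilizer_iff.1 σ.2

theorem res_surjective : Function.Surjective (res m) := by
  intro τ
  refine ⟨⟨Perm.ofSubtype ((finSuccAboveEquiv (0 : Fin (m + 1))).permCongr τ), ?_⟩, ?_⟩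
  · exact MulAction.mem_stabilizer_iff.2 (Perm.ofSubtype_apply_of_not_mem _ (by simp))
  · ext i
    simp [res, Perm.ofSubtype_apply_coe]

end res

variable {G : Type*} [Group G]

/-- The action of `M` on `m + 1` points with `M ⊓ N` as stabiliser of `0`. -/
structure Edge (M N : Subgroup G) (m : ℕ) where
  /-- the action -/
  f : M →* Perm (Fin (m + 1))
  stab : ∀ x : M, f x 0 = 0 ↔ (x : G) ∈ N
  trans : ∀ c, ∃ x, f x 0 = c

namespace Edge

variable {M N : Subgroup G} (e : Edge M N m)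

/-- The kernel, inside the ambient group. -/
def K : Subgroup G := e.f.ker.map M.subtype

theorem K_le_left : e.K ≤ M := map_subtype_le _

theorem mem_K {g : G} : g ∈ e.K ↔ ∃ h : g ∈ M, e.f ⟨g, h⟩ = 1 := by
  constructor
  · rintro ⟨x, hx, rfl⟩; exact ⟨x.2, hx⟩
  · rintro ⟨h, hg⟩; exact ⟨⟨g, h⟩, hg, rfl⟩

theorem K_le_right : e.K ≤ N := by
  rintro _ ⟨x, hx, rfl⟩
  exact (e.stab x).1 (by rw [MonoidHom.mem_ker.1 hx]; rfl)

theorem le_normalizer_K : M ≤ normalizer (e.K : Set G) := by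
  intro g hg
  refine le_normalizer_map M.subtype ⟨⟨g, hg⟩, ?_, rfl⟩
  rw [Subgroup.normalizer_eq_top]; exact mem_top _

theorem K_eq_coreIn : e.K = Suborbit.coreIn M N := by
  unfold K Suborbit.coreIn
  congr 1
  ext x
  constructor
  · intro hx y
    show ((y * x * y⁻¹ : M) : G) ∈ N
    refine (e.stab _).1 ?_
    rw [map_mul, map_mul, MonoidHom.mem_ker.1 hx, mul_one, map_inv, mul_inv_cancel]
    rfl
  · intro hx
    refine MonoidHom.mem_ker.2 (Perm.ext fun c => ?_)
    obtain ⟨y, rfl⟩ := e.trans c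
    have h := (e.stab (y⁻¹ * x * y⁻¹⁻¹)).2 (hx y⁻¹)
    rw [inv_inv, map_mul, map_mul, map_inv, Perm.mul_apply, Perm.mul_apply, Perm.inv_eq_iff_eq] at h
    exact h

/-- A set of representatives. -/
noncomputable def r (c : Fin (m + 1)) : M := Classical.choose (e.trans c)

theorem r_spec (c : Fin (m + 1)) : e.f (e.r c) 0 = c := Classical.choose_spec (e.trans c)

/-- The action of a subgroup of `M ⊓ N` on the points other than `0`. -/
def pi (H : Subgroup G) (hM : H ≤ M) (hN : H ≤ N) : H →* Perm (Fin m) :=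
  (res m).comp ((e.f.comp (Subgroup.inclusion hM)).codRestrict
    (MulAction.stabilizer (Perm (Fin (m + 1))) (0 : Fin (m + 1)))
    fun x => MulAction.mem_stabilizer_iff.2 ((e.stab _).2 (hN x.2)))

theorem pi_eq_one {H : Subgroup G} (hM : H ≤ M) (hN : H ≤ N) (x : H) :
    e.pi H hM hN x = 1 ↔ (x : G) ∈ e.K := by
  rw [pi, MonoidHom.comp_apply, ← map_one (res m), res_injective.eq_iff, e.mem_K]
  constructor
  · intro h; exact ⟨hM x.2, congrArg Subtype.val h⟩
  · rintro ⟨h, hx⟩; exact Subtype.ext hx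

theorem alt_le_pi (hA : (Alt (m + 1)) ≤ e.f.range) :
    (Alt m) ≤ (e.pi (M ⊓ N) inf_le_left inf_le_right).range := by
  intro τ hτ
  obtain ⟨σ, rfl⟩ := res_surjective τ
  obtain ⟨x, hx⟩ := hA (show (σ : Perm (Fin (m + 1))) ∈ Alt (m + 1) by
    rw [Perm.mem_alternatingGroup, ← sign_res]; exact hτ)
  have hxN : (x : G) ∈ N := (e.stab x).1 (by rw [hx]; exact MulAction.mem_stabilizer_iff.1 σ.2)
  exact ⟨⟨x, x.2, hxN⟩, congrArg (res m) (Subtype.ext hx)⟩

theorem pi_top_iff (hm : 5 ≤ m) (hA : (Alt (m + 1)) ≤ e.f.range) :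
    e.f.range = ⊤ ↔ (e.pi (M ⊓ N) inf_le_left inf_le_right).range = ⊤ := by
  constructor
  · intro h
    refine eq_top_iff.2 fun τ _ => ?_
    obtain ⟨σ, rfl⟩ := res_surjective τ
    obtain ⟨x, hx⟩ : (σ : Perm (Fin (m + 1))) ∈ e.f.range := h ▸ mem_top _
    have hxN : (x : G) ∈ N := (e.stab x).1 (by rw [hx]; exact MulAction.mem_stabilizer_iff.1 σ.2)
    exact ⟨⟨x, x.2, hxN⟩, congrArg (res m) (Subtype.ext hx)⟩
  · intro h
    obtain ⟨x, hx⟩ : swap (⟨0, by omega⟩ : Fin m) ⟨1, by omega⟩ ∈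
        (e.pi (M ⊓ N) inf_le_left inf_le_right).range := h ▸ mem_top _
    have hs : Perm.sign (e.f (Subgroup.inclusion inf_le_left x)) = -1 := by
      have := congrArg Perm.sign hx
      rw [pi, MonoidHom.comp_apply, sign_res, Perm.sign_swap (by simp)] at this
      exact this
    refine eq_top_iff.2 fun σ _ => ?_
    rcases Int.units_eq_one_or (Perm.sign σ) with h1 | h1
    · exact hA h1
    · have : σ * e.f (Subgroup.inclusion inf_le_left x) ∈ Alt (m + 1) := by
        rw [Perm.mem_alternatingGroup, map_mul, h1, hs]; rfl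
      have h2 := mul_mem (hA this) (inv_mem ⟨Subgroup.inclusion inf_le_left x, rfl⟩ :
        (e.f (Subgroup.inclusion inf_le_left x))⁻¹ ∈ e.f.range)
      rwa [mul_inv_cancel_right] at h2

end Edge

variable {M N : Subgroup G} (e₁ : Edge M N m) (e₂ : Edge N M m)

/-- Conjugation by an element of `M` on the first core. -/
def cj (x : M) : e₁.K →* e₁.K :=
  ((MulAut.conj (x : G)).toMonoidHom.comp e₁.K.subtype).codRestrict e₁.K
    fun y => (mem_normalizer_iff.1 (e₁.le_normalizer_K x.2) _).1 y.2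

/-- The action of the first core of `M` on the points opposite `c`. -/
noncomputable def hc (c : Fin (m + 1)) : e₁.K →* Perm (Fin m) :=
  (e₂.pi e₁.K e₁.K_le_right e₁.K_le_left).comp (cj e₁ (e₁.r c)⁻¹)

theorem cj_coe (x : M) (y : e₁.K) : ((cj e₁ x y : e₁.K) : G) = (x : G) * y * (x : G)⁻¹ := rfl

/-- Equivariance. -/
theorem hc_smul (x : M) (c : Fin (m + 1)) (y : e₁.K) :
    ∃ σ : Perm (Fin m), hc e₁ e₂ (e₁.f x c) (cj e₁ x y) = σ * hc e₁ e₂ c y * σ⁻¹ := by
  set u : M := (e₁.r (e₁.f x c))⁻¹ * x * e₁.r c with hu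
  have huN : (u : G) ∈ N := (e₁.stab u).1 (by
    rw [hu, map_mul, map_mul, Perm.mul_apply, Perm.mul_apply, e₁.r_spec, map_inv,
      Perm.inv_eq_iff_eq, e₁.r_spec])
  refine ⟨e₂.pi (M ⊓ N) inf_le_right inf_le_left ⟨u, u.2, huN⟩, ?_⟩
  have key : ∀ z : e₁.K, e₂.pi e₁.K e₁.K_le_right e₁.K_le_left z =
      e₂.pi (M ⊓ N) inf_le_right inf_le_left ⟨z, e₁.K_le_left z.2, e₁.K_le_right z.2⟩ :=
    fun z => rfl
  simp only [hc, MonoidHom.comp_apply, key, ← map_inv, ← map_mul]
  congr 1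
  apply Subtype.ext
  simp only [cj_coe, hu, Subgroup.coe_mul, Subgroup.coe_inv]
  group

theorem hc_zero (y : e₁.K) : hc e₁ e₂ 0 y = 1 ↔ (y : G) ∈ e₂.K := by
  have hrN : ((e₁.r 0 : M) : G) ∈ N := (e₁.stab _).1 (e₁.r_spec 0)
  rw [hc, MonoidHom.comp_apply, Edge.pi_eq_one, cj_coe, Subgroup.coe_inv]
  exact (mem_normalizer_iff.1 (e₂.le_normalizer_K (inv_mem hrN)) _).symm

theorem hc_zero_range_normalized :
    (e₂.pi (M ⊓ N) inf_le_right inf_le_left).range ≤
      normalizer ((hc e₁ e₂ 0).range : Set (Perm (Fin m))) := by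
  have h0 : e₁.f (e₁.r 0) 0 = 0 := e₁.r_spec 0
  have hrN : ((e₁.r 0 : M) : G) ∈ N := (e₁.stab _).1 h0
  have hrange : (hc e₁ e₂ 0).range = (e₁.K.subgroupOf (M ⊓ N)).map
      (e₂.pi (M ⊓ N) inf_le_right inf_le_left) := by
    ext σ
    constructor
    · rintro ⟨y, rfl⟩
      exact ⟨⟨(cj e₁ (e₁.r 0)⁻¹ y : e₁.K), e₁.K_le_left (cj e₁ _ y).2, e₁.K_le_right (cj e₁ _ y).2⟩,
        (cj e₁ _ y).2, rfl⟩
    · rintro ⟨z, hz, rfl⟩
      refine ⟨cj e₁ (e₁.r 0) ⟨z, hz⟩, ?_⟩
      rw [hc, MonoidHom.comp_apply]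
      have : cj e₁ (e₁.r 0)⁻¹ (cj e₁ (e₁.r 0) ⟨z, hz⟩) = ⟨z, hz⟩ := by
        apply Subtype.ext; simp [cj_coe, mul_assoc]
      rw [this]
      rfl
  rw [hrange]
  haveI : (e₁.K.subgroupOf (M ⊓ N)).Normal :=
    normal_subgroupOf_of_le_normalizer (inf_le_left.trans e₁.le_normalizer_K)
  rintro _ ⟨z, rfl⟩
  exact le_normalizer_map _ ⟨z, by rw [Subgroup.normalizer_eq_top]; exact mem_top _, rfl⟩

/-- The homomorphisms to the opposite points separate the first core if the second core is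
trivial. -/
theorem eq_one_of_hc (hA2 : Suborbit.coreIn M (e₁.K ⊓ e₂.K) = ⊥) (y : e₁.K)
    (hy : ∀ c, hc e₁ e₂ c y = 1) : y = 1 := by
  apply Subtype.ext
  rw [OneMemClass.coe_one, ← mem_bot, ← hA2]
  refine ⟨⟨y, e₁.K_le_left y.2⟩, ?_, rfl⟩
  intro x
  refine ⟨(cj e₁ x y).2, ?_⟩
  obtain ⟨c, hc'⟩ := (e₁.f x).surjective 0
  obtain ⟨σ, hσ⟩ := hc_smul e₁ e₂ x c y
  rw [hc', hy c, mul_one, mul_inv_cancel] at hσ
  exact (hc_zero e₁ e₂ _).1 hσ

section finite

variable [Finite G] (hm : 5 ≤ m)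

include hm in
theorem no_big_first (hA2 : Suborbit.coreIn M (e₁.K ⊓ e₂.K) = ⊥)
    (φ : e₁.K →* Perm (Fin (m + 1))) : ¬ (Alt (m + 1)) ≤ φ.range :=
  no_big_image hm (hc e₁ e₂) (eq_one_of_hc e₁ e₂ hA2) φ

include hm in
theorem no_big_second (hA2 : Suborbit.coreIn M (e₁.K ⊓ e₂.K) = ⊥)
    (φ : e₂.K →* Perm (Fin (m + 1))) : ¬ (Alt (m + 1)) ≤ φ.range := by
  intro hφ
  set h0 := e₁.pi e₂.K e₂.K_le_right e₂.K_le_left
  have h1 := big_ker hm φ ⊤ (by rwa [← MonoidHom.range_eq_map]) (h0.comp (⊤ : Subgroup e₂.K).subtype)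
  set Y := (h0.comp (⊤ : Subgroup e₂.K).subtype).ker.map (⊤ : Subgroup e₂.K).subtype
  have hY : ∀ y : Y, ((y : e₂.K) : G) ∈ e₁.K := by
    rintro ⟨_, z, hz, rfl⟩
    exact (e₁.pi_eq_one e₂.K_le_right e₂.K_le_left _).1 hz
  let ι : Y →* e₁.K := (e₂.K.subtype.comp Y.subtype).codRestrict e₁.K hY
  refine no_big_image hm (fun c => (hc e₁ e₂ c).comp ι) (fun y hy => ?_) (φ.comp Y.subtype) ?_
  · have := congrArg Subtype.val (eq_one_of_hc e₁ e₂ hA2 (ι y) hy)
    exact Subtype.ext (Subtype.ext this)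
  · rwa [MonoidHom.range_comp, range_subtype]

/-- Both first cores have no big image. -/
def NoBig (e₁ : Edge M N m) (e₂ : Edge N M m) : Prop :=
  (∀ φ : e₁.K →* Perm (Fin (m + 1)), ¬ (Alt (m + 1)) ≤ φ.range) ∧
    ∀ φ : e₂.K →* Perm (Fin (m + 1)), ¬ (Alt (m + 1)) ≤ φ.range

include hm in
theorem noBig_of_second_core (h : Suborbit.coreIn M (e₁.K ⊓ e₂.K) = ⊥ ∨
    Suborbit.coreIn N (e₁.K ⊓ e₂.K) = ⊥) : NoBig e₁ e₂ := by
  rcases h with h | h
  · exact ⟨no_big_first e₁ e₂ hm h, no_big_second e₁ e₂ hm h⟩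
  · rw [inf_comm] at h
    exact ⟨no_big_second e₂ e₁ hm h, no_big_first e₂ e₁ hm h⟩

include hm in
/-- The opposite constituent has the same order, and the first cores are conjugate. -/
theorem opposite (hnb : NoBig e₁ e₂) {g : G}
    (hg : N = M.map (MulAut.conj g).toMonoidHom) (hA : (Alt (m + 1)) ≤ e₁.f.range) :
    (Alt (m + 1)) ≤ e₂.f.range ∧ Nat.card e₂.f.range = Nat.card e₁.f.range ∧
      e₂.K = e₁.K.map (MulAut.conj g).toMonoidHom := by
  let θ : M ≃* N := (M.equivMapOfInjective (MulAut.conj g).toMonoidHom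
    (MulAut.conj g).injective).trans (MulEquiv.subgroupCongr hg.symm)
  have hθ : ∀ x : M, (θ x : G) = g * x * g⁻¹ := fun x => rfl
  set ψ : N →* Perm (Fin (m + 1)) := e₁.f.comp θ.symm.toMonoidHom
  have hψ : ψ.range = e₁.f.range := by
    rw [MonoidHom.range_comp, MonoidHom.range_eq_top.2 θ.symm.surjective,
      ← MonoidHom.range_eq_map]
  have hker : ψ.ker.map N.subtype = e₁.K.map (MulAut.conj g).toMonoidHom := by
    ext y
    constructor
    · rintro ⟨z, hz, rfl⟩
      refine ⟨θ.symm z, ⟨θ.symm z, hz, rfl⟩, ?_⟩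
      rw [MulEquiv.coe_toMonoidHom, MulAut.conj_apply, ← hθ, θ.apply_symm_apply]
      rfl
    · rintro ⟨_, ⟨z, hz, rfl⟩, rfl⟩
      refine ⟨θ z, ?_, hθ z⟩
      show e₁.f (θ.symm (θ z)) = 1
      rw [θ.symm_apply_apply]; exact hz
  have hKn : e₂.f.ker ≤ ψ.ker := by
    have hn : (Alt (m + 1)) ≤ normalizer ((e₂.f.ker.map ψ : Subgroup _) : Set _) := by
      intro σ hσ
      obtain ⟨x, rfl⟩ := hψ ▸ hA hσ
      exact le_normalizer_map ψ ⟨x, by rw [Subgroup.normalizer_eq_top]; exact mem_top _, rfl⟩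
    rcases normal_cases (by omega) _ hn with h | h
    · intro x hx
      have : ψ x ∈ e₂.f.ker.map ψ := ⟨x, hx, rfl⟩
      rwa [h, mem_bot] at this
    · refine absurd ?_ (hnb.2 (ψ.comp (Subgroup.inclusion e₂.K_le_left)))
      intro σ hσ
      obtain ⟨x, hx, rfl⟩ := h hσ
      exact ⟨⟨(x : G), x, hx, rfl⟩, rfl⟩
  have hA2 : (Alt (m + 1)) ≤ e₂.f.range := by
    refine Perm.alternatingGroup_le_of_index_le_two ?_
    have hd := index_dvd_of_le hKn
    rw [index_ker, index_ker, hψ] at hd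
    have h1 := e₂.f.range.card_mul_index
    have h2 := Nat.le_of_dvd Nat.card_pos hd
    have h3 := card_le_of_le hA
    haveI : Nontrivial (Fin (m + 1)) := Fin.nontrivial_iff_two_le.2 (by omega)
    have h4 := two_mul_nat_card_alternatingGroup (α := Fin (m + 1))
    have h5 : 0 < Nat.card (Alt (m + 1)) := Nat.card_pos
    nlinarith
  have hN2 : ψ.ker ≤ e₂.f.ker := by
    have hn : (Alt (m + 1)) ≤ normalizer ((ψ.ker.map e₂.f : Subgroup _) : Set _) := by
      intro σ hσ
      obtain ⟨x, rfl⟩ := hA2 hσ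
      exact le_normalizer_map e₂.f ⟨x, by rw [Subgroup.normalizer_eq_top]; exact mem_top _, rfl⟩
    rcases normal_cases (by omega) _ hn with h | h
    · intro x hx
      have : e₂.f x ∈ ψ.ker.map e₂.f := ⟨x, hx, rfl⟩
      rwa [h, mem_bot] at this
    · let j : e₁.K →* ψ.ker := ((θ.toMonoidHom.comp (Subgroup.inclusion e₁.K_le_left))).codRestrict
        ψ.ker fun z => by
          show e₁.f (θ.symm (θ _)) = 1
          rw [θ.symm_apply_apply]
          obtain ⟨_, hz⟩ := e₁.mem_K.1 z.2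
          exact hz
      refine absurd ?_ (hnb.1 ((e₂.f.comp ψ.ker.subtype).comp j))
      intro σ hσ
      obtain ⟨x, hx, rfl⟩ := h hσ
      refine ⟨⟨(θ.symm x : M), θ.symm x, hx, rfl⟩, ?_⟩
      show e₂.f (θ (θ.symm x)) = e₂.f x
      rw [θ.apply_symm_apply]
  have heq : e₂.f.ker = ψ.ker := le_antisymm hKn hN2
  refine ⟨hA2, ?_, ?_⟩
  · rw [← index_ker, heq, index_ker, hψ]
  · rw [Edge.K, heq, hker]

include hm in
/-- The two first cores meet trivially. -/
theorem inf_eq_bot (hA2 : Suborbit.coreIn M (e₁.K ⊓ e₂.K) = ⊥) {g : G}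
    (hg : e₂.K = e₁.K.map (MulAut.conj g).toMonoidHom)
    (h1 : (Alt (m + 1)) ≤ e₁.f.range) (h2 : (Alt (m + 1)) ≤ e₂.f.range) (hne : e₁.K ≠ ⊥) :
    e₁.K ⊓ e₂.K = ⊥ := by
  classical
  set h := hc e₁ e₂ with hh
  by_cases heq : ∃ c c', c ≠ c' ∧ (h c).ker = (h c').ker
  · obtain ⟨c, c', hcc, hker⟩ := heq
    refine (eq_bot_iff_forall _).2 fun y hy => ?_
    have hy0 : h 0 ⟨y, hy.1⟩ = 1 := (hc_zero e₁ e₂ _).2 hy.2
    refine congrArg Subtype.val (eq_one_of_hc e₁ e₂ hA2 ⟨y, hy.1⟩ fun d => ?_)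
    by_cases hd : d = 0
    · exact hd ▸ hy0
    haveI := alternatingGroup.isMultiplyPretransitive (Fin (m + 1))
    haveI : MulAction.IsMultiplyPretransitive (Alt (m + 1)) (Fin (m + 1)) 2 :=
      MulAction.isMultiplyPretransitive_of_le (G := Alt (m + 1)) (m := 2)
        (n := Nat.card (Fin (m + 1)) - 2)
        (by rw [Nat.card_fin]; omega) (by omega)
    obtain ⟨σ, hσc, hσd⟩ := MulAction.is_two_pretransitive_iff.1 this hcc (Ne.symm hd)
    obtain ⟨x, hx⟩ := h1 σ.2
    have hxc : e₁.f x c = 0 := by rw [hx]; exact hσc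
    have hxd : e₁.f x c' = d := by rw [hx]; exact hσd
    set z := cj e₁ x⁻¹ ⟨y, hy.1⟩
    have hz : cj e₁ x z = ⟨y, hy.1⟩ := by apply Subtype.ext; simp [z, cj_coe, mul_assoc]
    obtain ⟨τ, hτ⟩ := hc_smul e₁ e₂ x c z
    rw [hz, hxc, ← hh, hy0, eq_comm, mul_inv_eq_one, mul_eq_left] at hτ
    have hz' : h c' z = 1 := by
      rw [← MonoidHom.mem_ker, ← hker, MonoidHom.mem_ker]; exact hτ
    obtain ⟨τ', hτ'⟩ := hc_smul e₁ e₂ x c' z
    rw [hz, hxd, ← hh, hz', mul_one, mul_inv_cancel] at hτ'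
    exact hτ'
  push Not at heq
  exfalso
  -- kernels are incomparable
  have hcard : ∀ c, Nat.card (h c).ker = Nat.card (h 0).ker := by
    intro c
    obtain ⟨x, hx⟩ := e₁.trans c
    have hiff : ∀ y, h c (cj e₁ x y) = 1 ↔ h 0 y = 1 := fun y => by
      obtain ⟨τ, hτ⟩ := hc_smul e₁ e₂ x 0 y
      rw [hx, ← hh] at hτ
      rw [hτ, mul_inv_eq_one, mul_eq_left]
    refine (Nat.card_congr ?_).symm
    refine
      { toFun := fun y => ⟨cj e₁ x y.1, (hiff y.1).2 y.2⟩
        invFun := fun y => ⟨cj e₁ x⁻¹ y.1, (hiff _).1 (by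
          have : cj e₁ x (cj e₁ x⁻¹ y.1) = y.1 := by apply Subtype.ext; simp [cj_coe, mul_assoc]
          rw [this]; exact y.2)⟩
        left_inv := fun y => by apply Subtype.ext; apply Subtype.ext; simp [cj_coe, mul_assoc]
        right_inv := fun y => by apply Subtype.ext; apply Subtype.ext; simp [cj_coe, mul_assoc] }
  have hnle : ∀ c c', c ≠ c' → ¬ (h c).ker ≤ (h c').ker := fun c c' hcc hle =>
    heq c c' hcc (Subgroup.eq_of_le_of_card_ge hle (by rw [hcard c, hcard c']))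
  -- the images
  have hA0 : (Alt m) ≤ (h 0).range := by
    have hnorm : (Alt m) ≤ normalizer ((h 0).range : Set (Perm (Fin m))) := by
      intro σ hσ
      obtain ⟨z, rfl⟩ := Edge.alt_le_pi e₂ h2 hσ
      exact hc_zero_range_normalized e₁ e₂ ⟨⟨z, z.2.2, z.2.1⟩, rfl⟩
    refine (normal_cases hm _ hnorm).resolve_left fun hb => hne ?_
    refine (eq_bot_iff_forall _).2 fun y hy => ?_
    have hsub : e₁.K ≤ e₂.K := fun z hz => (hc_zero e₁ e₂ ⟨z, hz⟩).1 (by
      have : h 0 ⟨z, hz⟩ ∈ (h 0).range := ⟨_, rfl⟩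
      rwa [hb, mem_bot] at this)
    have h0 : ∀ c, h c ⟨y, hy⟩ = 1 := by
      intro c
      obtain ⟨x, hx⟩ := e₁.trans c
      set z := cj e₁ x⁻¹ ⟨y, hy⟩
      have hz : cj e₁ x z = ⟨y, hy⟩ := by apply Subtype.ext; simp [z, cj_coe, mul_assoc]
      obtain ⟨τ, hτ⟩ := hc_smul e₁ e₂ x 0 z
      rw [hz, hx, (hc_zero e₁ e₂ z).2 (hsub z.2), mul_one, mul_inv_cancel] at hτ
      exact hτ
    exact congrArg Subtype.val (eq_one_of_hc e₁ e₂ hA2 ⟨y, hy⟩ h0)
  have hAc : ∀ c, (Alt m) ≤ (h c).range := by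
    intro c σ hσ
    obtain ⟨x, hx⟩ := e₁.trans c
    obtain ⟨τ, hτ⟩ : ∃ τ : Perm (Fin m), ∀ y, h c (cj e₁ x y) = τ * h 0 y * τ⁻¹ := by
      refine ⟨e₂.pi (M ⊓ N) inf_le_right inf_le_left
        ⟨(((e₁.r c)⁻¹ * x * e₁.r 0 : M) : G), ((e₁.r c)⁻¹ * x * e₁.r 0).2, ?_⟩, fun y => ?_⟩
      · refine (e₁.stab _).1 ?_
        rw [map_mul, map_mul, Perm.mul_apply, Perm.mul_apply, e₁.r_spec, hx, map_inv,
          Perm.inv_eq_iff_eq, e₁.r_spec]
      · have key : ∀ z : e₁.K, e₂.pi e₁.K e₁.K_le_right e₁.K_le_left z =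
            e₂.pi (M ⊓ N) inf_le_right inf_le_left ⟨z, e₁.K_le_left z.2, e₁.K_le_right z.2⟩ :=
          fun z => rfl
        simp only [hh, hc, MonoidHom.comp_apply, key, ← map_inv, ← map_mul]
        congr 1
        apply Subtype.ext
        simp only [cj_coe, Subgroup.coe_mul, Subgroup.coe_inv]
        group
    obtain ⟨y, hy⟩ := hA0 (show τ⁻¹ * σ * τ ∈ Alt m by
      have := Normal.conj_mem (H := Alt m) inferInstance σ hσ τ⁻¹
      rwa [inv_inv] at this)
    exact ⟨cj e₁ x y, by rw [hτ, hy]; group⟩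
  -- products of the other kernels
  have hprod : ∀ c (s : Finset (Fin (m + 1))), c ∉ s →
      ∃ P : Subgroup e₁.K, P.Normal ∧ (∀ i ∈ s, P ≤ (h i).ker) ∧ (Alt m) ≤ P.map (h c) := by
    intro c s
    induction s using Finset.induction_on with
    | empty =>
      intro _
      exact ⟨⊤, inferInstance, by simp, by rw [← MonoidHom.range_eq_map]; exact hAc c⟩
    | insert i s _ ih =>
      intro hcs
      rw [Finset.mem_insert, not_or] at hcs
      obtain ⟨P, hPn, hPs, hPc⟩ := ih hcs.2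
      haveI := hPn
      refine ⟨⁅P, (h i).ker⁆, inferInstance, fun j hj => ?_, ?_⟩
      · rcases Finset.mem_insert.1 hj with rfl | hj
        · exact (commutator_le_inf P _).trans inf_le_right
        · exact ((commutator_le_inf P _).trans inf_le_left).trans (hPs j hj)
      · have hi : (Alt m) ≤ (h i).ker.map (h c) := by
          have hn : (Alt m) ≤ normalizer (((h i).ker.map (h c) : Subgroup _) : Set _) := by
            intro σ hσ
            obtain ⟨x, rfl⟩ := hAc c hσ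
            exact le_normalizer_map (h c)
              ⟨x, by rw [Subgroup.normalizer_eq_top]; exact mem_top _, rfl⟩
          refine (normal_cases hm _ hn).resolve_left fun hb => hnle i c (Ne.symm hcs.1) ?_
          intro z hz
          have : h c z ∈ (h i).ker.map (h c) := ⟨z, hz, rfl⟩
          rwa [hb, mem_bot] at this
        rw [map_commutator]
        calc (Alt m) = ⁅(Alt m), (Alt m)⁆ := (alt_commutator hm).symm
          _ ≤ _ := commutator_mono hPc hi
  -- the factors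
  let T : Fin (m + 1) → Subgroup e₁.K := fun c =>
    (⨅ i ∈ Finset.univ.erase c, (h i).ker) ⊓ (Alt m).comap (h c)
  have hTmem : ∀ c y, y ∈ T c ↔ (∀ i, i ≠ c → h i y = 1) ∧ h c y ∈ Alt m := by
    intro c y
    simp only [T, mem_inf, mem_iInf, Finset.mem_erase, Finset.mem_univ, and_true,
      MonoidHom.mem_ker, mem_comap]
  have hTsurj : ∀ c σ, σ ∈ (Alt m) → ∃ y ∈ T c, h c y = σ := by
    intro c σ hσ
    obtain ⟨P, -, hP, hPc⟩ := hprod c (Finset.univ.erase c) (Finset.notMem_erase c _)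
    obtain ⟨y, hy, rfl⟩ := hPc hσ
    exact ⟨y, (hTmem c y).2 ⟨fun i hi => MonoidHom.mem_ker.1
      (hP i (Finset.mem_erase.2 ⟨hi, Finset.mem_univ _⟩) hy), hσ⟩, rfl⟩
  have hTinj : ∀ c y, y ∈ T c → h c y = 1 → y = 1 := fun c y hy h1' =>
    eq_one_of_hc e₁ e₂ hA2 y fun i => by
      by_cases hi : i = c
      · exact hi ▸ h1'
      · exact ((hTmem c y).1 hy).1 i hi
  haveI : Nontrivial (Alt m) := alternatingGroup.nontrivial_of_three_le_card (by rw [Nat.card_fin]; omega)
  obtain ⟨⟨σ₀, hσ₀⟩, hσ₀'⟩ := exists_ne (1 : Alt m)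
  have hσ₀1 : σ₀ ≠ 1 := fun e => hσ₀' (Subtype.ext e)
  have hTne : ∀ c, ∃ y ∈ T c, h c y ≠ 1 := fun c => by
    obtain ⟨y, hy, hy'⟩ := hTsurj c σ₀ hσ₀
    exact ⟨y, hy, hy' ▸ hσ₀1⟩
  let TG : Fin (m + 1) → Subgroup G := fun c => (T c).map e₁.K.subtype
  have hTGne : ∀ c, TG c ≠ ⊥ := by
    intro c hb
    obtain ⟨y, hy, hy'⟩ := hTne c
    have : (y : G) ∈ TG c := ⟨y, hy, rfl⟩
    rw [hb, mem_bot] at this
    exact hy' (by rw [show y = 1 from Subtype.ext this, map_one])
  have hTGinj : Function.Injective TG := by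
    intro c c' hcc
    have hcc' : T c = T c' := map_injective e₁.K.subtype_injective hcc
    by_contra hne'
    obtain ⟨y, hy, hy'⟩ := hTne c
    rw [hcc'] at hy
    exact hy' (((hTmem c' y).1 hy).1 c hne')
  have hTnorm : ∀ c, e₁.K ≤ normalizer (TG c : Set G) := by
    intro c z hz
    haveI : (T c).Normal := ⟨fun y hy w => (hTmem c _).2
      ⟨fun i hi => by rw [map_mul, map_mul, ((hTmem c y).1 hy).1 i hi, mul_one, map_inv, mul_inv_cancel],
        by rw [map_mul, map_mul, map_inv]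
           exact Normal.conj_mem inferInstance _ ((hTmem c y).1 hy).2 _⟩⟩
    refine le_normalizer_map e₁.K.subtype ⟨⟨z, hz⟩, ?_, rfl⟩
    rw [Subgroup.normalizer_eq_top]; exact mem_top _
  have hTmin : ∀ c (P : Subgroup G), P ≤ TG c → TG c ≤ normalizer (P : Set G) →
      P = ⊥ ∨ P = TG c := by
    intro c P hP hn
    set Q := P.subgroupOf e₁.K
    have hn' : (Alt m) ≤ normalizer ((Q.map (h c) : Subgroup _) : Set _) := by
      intro σ hσ
      obtain ⟨y, hy, rfl⟩ := hTsurj c σ hσ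
      refine le_normalizer_map (h c) ⟨y, ?_, rfl⟩
      rw [SetLike.mem_coe, mem_normalizer_iff]
      intro w
      exact mem_normalizer_iff.1 (hn ⟨y, hy, rfl⟩) w
    have hQT : ∀ z ∈ Q, z ∈ T c := fun z hz => by
      obtain ⟨w, hw, he⟩ := hP hz
      rwa [← e₁.K.subtype_injective he]
    rcases normal_cases hm _ hn' with hb | hb
    · refine Or.inl ((eq_bot_iff_forall _).2 fun z hz => ?_)
      obtain ⟨w, hw, rfl⟩ := hP hz
      have : h c w ∈ Q.map (h c) := ⟨w, hz, rfl⟩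
      rw [hb, mem_bot] at this
      rw [hTinj c w hw this]; rfl
    · refine Or.inr (le_antisymm hP ?_)
      rintro _ ⟨y, hy, rfl⟩
      obtain ⟨z, hz, hzy⟩ := hb ((hTmem c y).1 hy).2
      have : z⁻¹ * y = 1 := hTinj c _ (mul_mem (inv_mem (hQT z hz)) hy)
        (by rw [map_mul, map_inv, hzy, inv_mul_cancel])
      rw [inv_mul_eq_one] at this
      exact this ▸ hz
  have hTequiv : ∀ (x : M) c, ∀ y ∈ T c, cj e₁ x y ∈ T (e₁.f x c) := by
    intro x c y hy
    obtain ⟨hy1, hy2⟩ := (hTmem c y).1 hy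
    refine (hTmem _ _).2 ⟨fun i hi => ?_, ?_⟩
    · obtain ⟨j, rfl⟩ := (e₁.f x).surjective i
      obtain ⟨τ, hτ⟩ := hc_smul e₁ e₂ x j y
      rw [hh, hτ, ← hh, hy1 j (fun e => hi (by rw [e])), mul_one, mul_inv_cancel]
    · obtain ⟨τ, hτ⟩ := hc_smul e₁ e₂ x c y
      rw [hh, hτ]
      exact Normal.conj_mem inferInstance _ hy2 τ
  -- the conjugate factors in the second core
  set γ := (MulAut.conj g).toMonoidHom
  let T' : Fin (m + 1) → Subgroup G := fun c => (TG c).map γ
  have hγ : Function.Injective γ := (MulAut.conj g).injective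
  have hT'le : ∀ c, T' c ≤ e₂.K := fun c => hg ▸ Subgroup.map_mono (map_subtype_le _)
  have hT'norm : ∀ c, e₂.K ≤ normalizer (T' c : Set G) := fun c =>
    hg ▸ (Subgroup.map_mono (hTnorm c)).trans (le_normalizer_map γ)
  have hT'min : ∀ c (P : Subgroup G), P ≤ T' c → T' c ≤ normalizer (P : Set G) →
      P = ⊥ ∨ P = T' c := by
    intro c P hP hn
    have hPr : (P.comap γ).map γ = P :=
      map_comap_eq_self (hP.trans (map_le_range γ _))
    rcases hTmin c (P.comap γ) (by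
        rw [← comap_map_eq_self_of_injective hγ (TG c)]; exact comap_mono hP) (by
        intro y hy
        rw [mem_normalizer_iff]
        intro w
        simp only [SetLike.mem_coe, mem_comap, map_mul, map_inv]
        exact mem_normalizer_iff.1 (hn ⟨y, hy, rfl⟩) _) with hb | hb
    · left; rw [← hPr, hb, Subgroup.map_bot]
    · right; rw [← hPr, hb]
  have hle2 : ∀ c, c ≠ 0 → TG c ≤ e₂.K := by
    rintro c hc0 _ ⟨y, hy, rfl⟩
    exact (hc_zero e₁ e₂ y).1 (((hTmem c y).1 hy).1 0 (Ne.symm hc0))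
  have hT'K : ∀ i, T' i ≤ e₁.K := by
    intro i
    have hE : T' i ≤ M ⊓ N :=
      le_inf ((hT'le i).trans e₂.K_le_right) ((hT'le i).trans e₂.K_le_left)
    rcases hT'min i (T' i ⊓ e₁.K) inf_le_left (by
        intro y hy
        rw [mem_normalizer_iff]
        intro w
        simp only [SetLike.mem_coe, mem_inf]
        exact and_congr (mem_normalizer_iff.1 (le_normalizer hy) w)
          (mem_normalizer_iff.1 (e₁.le_normalizer_K (hE hy).1) w)) with hb | hb
    · exfalso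
      apply (Subgroup.map_eq_bot_iff_of_injective _ hγ).not.2 (hTGne i)
      refine (eq_bot_iff_forall _).2 fun y hy => ?_
      have hyM : y ∈ M := (hE hy).1
      have hfix : ∀ c, e₁.f ⟨y, hyM⟩ c = c := by
        intro c
        by_cases hc0 : c = 0
        · exact hc0 ▸ (e₁.stab _).2 (hE hy).2
        by_contra hne'
        have hcomm : ∀ t ∈ TG c, y * t = t * y := by
          intro t ht
          have ht1 : t ∈ e₁.K := map_subtype_le _ ht
          have ht2 : t ∈ e₂.K := hle2 c hc0 ht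
          have h1' : y * t * y⁻¹ * t⁻¹ ∈ T' i := by
            rw [show y * t * y⁻¹ * t⁻¹ = y * (t * y⁻¹ * t⁻¹) by group]
            exact mul_mem hy ((mem_normalizer_iff.1 (hT'norm i ht2) _).1 (inv_mem hy))
          have h2' : y * t * y⁻¹ * t⁻¹ ∈ e₁.K :=
            mul_mem ((mem_normalizer_iff.1 (e₁.le_normalizer_K hyM) _).1 ht1) (inv_mem ht1)
          have h3' : y * t * y⁻¹ * t⁻¹ = 1 := mem_bot.1 (hb ▸ ⟨h1', h2'⟩)
          calc y * t = (y * t * y⁻¹ * t⁻¹) * (t * y) := by group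
            _ = t * y := by rw [h3', one_mul]
        obtain ⟨t, ht, ht'⟩ := hTne c
        have := hTequiv ⟨y, hyM⟩ c t ht
        have hcj : cj e₁ ⟨y, hyM⟩ t = t := by
          apply Subtype.ext
          rw [cj_coe]
          rw [hcomm t ⟨t, ht, rfl⟩]; group
        rw [hcj] at this
        exact ht' (((hTmem _ t).1 this).1 c (Ne.symm hne'))
      have hK : y ∈ e₁.K := e₁.mem_K.2 ⟨hyM, Perm.ext hfix⟩
      exact mem_bot.1 (hb ▸ ⟨hy, hK⟩)
    · rw [← hb]; exact inf_le_right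
  have hmatch : ∀ i, ∃ c, c ≠ 0 ∧ T' i = TG c := by
    intro i
    by_contra hno
    push Not at hno
    apply (Subgroup.map_eq_bot_iff_of_injective _ hγ).not.2 (hTGne i)
    refine (eq_bot_iff_forall _).2 fun y hy => ?_
    have hy1 : y ∈ e₁.K := hT'K i hy
    suffices ∀ c, h c ⟨y, hy1⟩ = 1 from
      congrArg Subtype.val (eq_one_of_hc e₁ e₂ hA2 ⟨y, hy1⟩ this)
    intro c
    by_cases hc0 : c = 0
    · exact hc0 ▸ (hc_zero e₁ e₂ _).2 (hT'le i hy)
    have hinf : T' i ⊓ TG c = ⊥ := by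
      rcases hT'min i (T' i ⊓ TG c) inf_le_left (by
          intro z hz
          rw [mem_normalizer_iff]
          intro w
          simp only [SetLike.mem_coe, mem_inf]
          exact and_congr (mem_normalizer_iff.1 (le_normalizer hz) w)
            (mem_normalizer_iff.1 (hTnorm c (hT'K i hz)) w)) with hb | hb
      · exact hb
      · exfalso
        rcases hTmin c (T' i) (inf_eq_left.1 hb)
            ((hle2 c hc0).trans (hT'norm i)) with hb' | hb'
        · exact hTGne i ((Subgroup.map_eq_bot_iff_of_injective _ hγ).1 hb')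
        · exact hno c hc0 hb'
    refine alt_centralizer (by omega) fun σ hσ => ?_
    obtain ⟨t, ht, rfl⟩ := hTsurj c σ hσ
    rw [← map_mul, ← map_mul]
    congr 1
    apply Subtype.ext
    have h1' : y * t * y⁻¹ * (t : G)⁻¹ ∈ T' i := by
      rw [show y * t * y⁻¹ * (t : G)⁻¹ = y * (t * y⁻¹ * (t : G)⁻¹) by group]
      exact mul_mem hy ((mem_normalizer_iff.1 (hT'norm i (hle2 c hc0 ⟨t, ht, rfl⟩)) _).1 (inv_mem hy))
    have h2' : y * t * y⁻¹ * (t : G)⁻¹ ∈ TG c :=
      mul_mem ((mem_normalizer_iff.1 (hTnorm c hy1) _).1 ⟨t, ht, rfl⟩) (inv_mem ⟨t, ht, rfl⟩)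
    have h3' : y * t * y⁻¹ * (t : G)⁻¹ = 1 := mem_bot.1 (hinf ▸ ⟨h1', h2'⟩)
    show y * t = t * y
    calc y * t = (y * t * y⁻¹ * (t : G)⁻¹) * (t * y) := by group
      _ = t * y := by rw [h3', one_mul]
  choose σ hσ0 hσ using hmatch
  have hσinj : Function.Injective σ := fun a b hab =>
    hTGinj (Subgroup.map_injective hγ (by rw [show (TG a).map γ = T' a from rfl, hσ a, hab, ← hσ b]))
  exact hσ0 _ ((Finite.injective_iff_surjective.1 hσinj) 0).choose_spec

include hm in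
set_option maxHeartbeats 1000000 in
/-- The structure of `M` when the first cores meet trivially. -/
theorem structure_of_inf_eq_bot (hL : e₁.K ⊓ e₂.K = ⊥) (h1 : (Alt (m + 1)) ≤ e₁.f.range)
    (h2 : (Alt (m + 1)) ≤ e₂.f.range) (hne : e₁.K ≠ ⊥) (hne2 : e₂.K ≠ ⊥)
    (hcard : Nat.card e₂.f.range = Nat.card e₁.f.range) :
    (e₁.f.range.index = 2 ∧ Nonempty (M ≃* (Alt (m + 1)) × (Alt m))) ∨
    (e₁.f.range = ⊤ ∧ (Nonempty (M ≃* Perm (Fin (m + 1)) × Perm (Fin m)) ∨
      Nonempty (M ≃* ((Perm.sign.comp (MonoidHom.fst (Perm (Fin (m + 1))) (Perm (Fin m)))) *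
         (Perm.sign.comp (MonoidHom.snd (Perm (Fin (m + 1))) (Perm (Fin m))))).ker))) := by
  set π := e₂.pi (M ⊓ N) inf_le_right inf_le_left with hπdef
  have hπA : (Alt m) ≤ π.range := by
    intro σ hσ
    obtain ⟨z, rfl⟩ := e₂.alt_le_pi h2 hσ
    exact ⟨⟨z, z.2.2, z.2.1⟩, rfl⟩
  have hπtop : π.range = ⊤ ↔ e₂.f.range = ⊤ := by
    rw [e₂.pi_top_iff hm h2]
    constructor <;> intro h <;> refine eq_top_iff.2 fun σ _ => ?_ <;>
      obtain ⟨z, rfl⟩ := (eq_top_iff.1 h) (mem_top σ) <;> exact ⟨⟨z, z.2.2, z.2.1⟩, rfl⟩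
  have hKA : (Alt m) ≤ (e₁.K.subgroupOf (M ⊓ N)).map π := by
    haveI : (e₁.K.subgroupOf (M ⊓ N)).Normal :=
      normal_subgroupOf_of_le_normalizer (inf_le_left.trans e₁.le_normalizer_K)
    refine (normal_cases hm _ ?_).resolve_left fun hb => hne ?_
    · intro σ hσ
      obtain ⟨z, rfl⟩ := hπA hσ
      exact le_normalizer_map π ⟨z, by rw [Subgroup.normalizer_eq_top]; exact mem_top _, rfl⟩
    · rw [← le_bot_iff, ← hL]
      refine le_inf le_rfl fun y hy => ?_
      have : π ⟨y, e₁.K_le_left hy, e₁.K_le_right hy⟩ ∈ (e₁.K.subgroupOf (M ⊓ N)).map π :=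
        ⟨_, hy, rfl⟩
      rw [hb, mem_bot] at this
      exact (e₂.pi_eq_one _ _ _).1 this
  -- the centraliser
  set C : Subgroup M := centralizer (e₁.f.ker : Set M) with hC
  haveI hCn : C.Normal := ⟨fun c hc x => mem_centralizer_iff.2 fun k hk => by
    have := mem_centralizer_iff.1 hc (x⁻¹ * k * x)
      (by simpa using (inferInstance : e₁.f.ker.Normal).conj_mem k hk x⁻¹)
    calc k * (x * c * x⁻¹) = x * ((x⁻¹ * k * x) * c) * x⁻¹ := by group
      _ = x * (c * (x⁻¹ * k * x)) * x⁻¹ := by rw [this]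
      _ = x * c * x⁻¹ * k := by group⟩
  have hK2C : ∀ (y : M), (y : G) ∈ e₂.K → y ∈ C := by
    intro y hy
    refine mem_centralizer_iff.2 fun k hk => Subtype.ext ?_
    have hk' : (k : G) ∈ e₁.K := ⟨k, hk, rfl⟩
    have h3 : (k : G) * y * (k : G)⁻¹ * (y : G)⁻¹ ∈ e₁.K ⊓ e₂.K := by
      refine ⟨?_, ?_⟩
      swap
      · have hy' : (k : G) * y * (k : G)⁻¹ ∈ e₂.K :=
          (mem_normalizer_iff.1 (e₂.le_normalizer_K (e₁.K_le_right hk')) _).1 hy
        exact e₂.K.mul_mem hy' (e₂.K.inv_mem hy)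
      rw [show (k : G) * y * (k : G)⁻¹ * (y : G)⁻¹ = k * (y * (k : G)⁻¹ * (y : G)⁻¹) by group]
      exact mul_mem hk' ((mem_normalizer_iff.1 (e₁.le_normalizer_K y.2) _).1 (inv_mem hk'))
    rw [hL, mem_bot] at h3
    show (k : G) * y = y * k
    calc (k : G) * y = ((k : G) * y * (k : G)⁻¹ * (y : G)⁻¹) * (y * k) := by group
      _ = y * k := by rw [h3, one_mul]
  have hCE : ∀ (y : M) (hyN : (y : G) ∈ N), y ∈ C → π ⟨y, y.2, hyN⟩ = 1 := by
    intro y hyN hy
    refine alt_centralizer (by omega) fun σ hσ => ?_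
    obtain ⟨k, hk, rfl⟩ := hKA hσ
    rw [← map_mul, ← map_mul]
    congr 1
    apply Subtype.ext
    obtain ⟨hkM, hk1⟩ := e₁.mem_K.1 hk
    exact congrArg (fun z : M => (z : G)) (mem_centralizer_iff.1 hy ⟨k, hkM⟩ hk1).symm
  have hCK : ∀ y ∈ C, e₁.f y = 1 → y = 1 := by
    intro y hy hy1
    have hy' : (y : G) ∈ e₁.K := e₁.mem_K.2 ⟨y.2, hy1⟩
    have h3 : (y : G) ∈ e₁.K ⊓ e₂.K :=
      ⟨hy', (e₂.pi_eq_one (inf_le_right : M ⊓ N ≤ N) inf_le_left _).1 (hCE y (e₁.K_le_right hy') hy)⟩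
    rw [hL, mem_bot] at h3
    exact Subtype.ext h3
  have hCA : (Alt (m + 1)) ≤ C.map e₁.f := by
    refine (normal_cases (by omega) _ ?_).resolve_left fun hb => hne2 ?_
    · intro σ hσ
      obtain ⟨x, rfl⟩ := h1 hσ
      exact le_normalizer_map e₁.f ⟨x, by rw [Subgroup.normalizer_eq_top]; exact mem_top _, rfl⟩
    · refine (eq_bot_iff_forall _).2 fun y hy => ?_
      have hyC := hK2C ⟨y, e₂.K_le_right hy⟩ hy
      have : e₁.f ⟨y, e₂.K_le_right hy⟩ ∈ C.map e₁.f := ⟨_, hyC, rfl⟩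
      rw [hb, mem_bot] at this
      exact congrArg Subtype.val (hCK _ hyC this)
  -- the projection
  let φ : (M ⊓ N : Subgroup G) →* M ⧸ C :=
    (QuotientGroup.mk' C).comp (Subgroup.inclusion inf_le_left)
  have hφ : Function.Surjective φ := by
    intro q
    induction q using QuotientGroup.induction_on with
    | _ x =>
      haveI : MulAction.IsPretransitive (Alt (m + 1)) (Fin (m + 1)) :=
        alternatingGroup.isPretransitive_of_three_le_card (Fin (m + 1)) (by rw [Nat.card_fin]; omega)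
      obtain ⟨σ, hσ⟩ := MulAction.exists_smul_eq (Alt (m + 1)) (0 : Fin (m + 1)) (e₁.f x 0)
      obtain ⟨c, hcC, hc1⟩ := hCA σ.2
      have hxN : ((c⁻¹ * x : M) : G) ∈ N := (e₁.stab _).1 (by
        rw [map_mul, map_inv, Perm.mul_apply, Perm.inv_eq_iff_eq, hc1]; exact hσ.symm)
      refine ⟨⟨(c⁻¹ * x : M), (c⁻¹ * x).2, hxN⟩, ?_⟩
      show (QuotientGroup.mk (c⁻¹ * x) : M ⧸ C) = QuotientGroup.mk x
      rw [QuotientGroup.mk_mul, QuotientGroup.mk_inv, (QuotientGroup.eq_one_iff c).2 hcC, inv_one,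
        one_mul]
  have hφker : φ.ker ≤ π.ker := by
    intro z hz
    have : Subgroup.inclusion inf_le_left z ∈ C := (QuotientGroup.eq_one_iff _).1 hz
    have hzN : ((Subgroup.inclusion inf_le_left z : M) : G) ∈ N := z.2.2
    have h := hCE (Subgroup.inclusion inf_le_left z) hzN this
    have e : (⟨((Subgroup.inclusion inf_le_left z : M) : G),
        (Subgroup.inclusion inf_le_left z : M).2, hzN⟩ : (M ⊓ N : Subgroup G)) = z := Subtype.ext rfl
    rw [e] at h
    exact MonoidHom.mem_ker.2 h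
  obtain ⟨l, hl⟩ : ∃ l : M ⧸ C →* Perm (Fin m), ∀ z, l (φ z) = π z :=
    ⟨φ.liftOfSurjective hφ ⟨π, hφker⟩,
      fun z => φ.liftOfRightInverse_comp_apply _ (Function.rightInverse_surjInv hφ) ⟨π, hφker⟩ z⟩
  let ψ : M →* Perm (Fin m) := l.comp (QuotientGroup.mk' C)
  have hψE : ∀ z, ψ (Subgroup.inclusion inf_le_left z) = π z := fun z => hl z
  have hψC : ∀ c ∈ C, ψ c = 1 := fun c hc => by
    show l (QuotientGroup.mk' C c) = 1
    rw [(QuotientGroup.eq_one_iff c).2 hc |> fun h => (show QuotientGroup.mk' C c = 1 from h), map_one]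
  have hψR : ∀ x, ψ x ∈ π.range := by
    intro x
    obtain ⟨z, hz⟩ := hφ (QuotientGroup.mk' C x)
    refine ⟨z, ?_⟩
    rw [← hψE z]
    show l (φ z) = l (QuotientGroup.mk' C x)
    rw [hz]
  let Φ : M →* Perm (Fin (m + 1)) × Perm (Fin m) := e₁.f.prod ψ
  have hΦ : Function.Injective Φ := by
    rw [injective_iff_map_eq_one]
    intro x hx
    have hx1 : e₁.f x = 1 := congrArg Prod.fst hx
    have hx2 : ψ x = 1 := congrArg Prod.snd hx
    have hx' : (x : G) ∈ e₁.K := e₁.mem_K.2 ⟨x.2, hx1⟩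
    have h4 := hψE ⟨x, x.2, e₁.K_le_right hx'⟩
    rw [show Subgroup.inclusion inf_le_left (⟨x, x.2, e₁.K_le_right hx'⟩ : (M ⊓ N : Subgroup G)) = x from rfl,
      hx2] at h4
    have h3 : (x : G) ∈ e₁.K ⊓ e₂.K := ⟨hx', (e₂.pi_eq_one (inf_le_right : M ⊓ N ≤ N) inf_le_left _).1 h4.symm⟩
    rw [hL, mem_bot] at h3
    exact Subtype.ext h3
  have hprod : (Alt (m + 1)).prod (Alt m) ≤ Φ.range := by
    rintro ⟨σ, τ⟩ ⟨hσ, hτ⟩
    obtain ⟨c, hc, hc1⟩ := hCA hσ
    obtain ⟨k, hk, hk1⟩ := hKA hτ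
    refine ⟨c * Subgroup.inclusion inf_le_left k, Prod.ext ?_ ?_⟩
    · show e₁.f _ = σ
      obtain ⟨_, hk'⟩ := e₁.mem_K.1 hk
      rw [map_mul, show e₁.f (Subgroup.inclusion inf_le_left k) = 1 from hk', mul_one, hc1]
    · show ψ _ = τ
      rw [map_mul, hψC c hc, one_mul, hψE, hk1]
  have hs : Nat.card (Alt (m + 1)) * 2 = Nat.card (Perm (Fin (m + 1))) := by
    haveI : Nontrivial (Fin (m + 1)) := Fin.nontrivial_iff_two_le.2 (by omega)
    rw [mul_comm]; exact two_mul_nat_card_alternatingGroup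
  by_cases htop : e₁.f.range = ⊤
  · right
    refine ⟨htop, ?_⟩
    have hπt : π.range = ⊤ := hπtop.2 (eq_top_of_card_eq _ (by rw [hcard, htop, card_top]))
    set S := ((Perm.sign.comp (MonoidHom.fst (Perm (Fin (m + 1))) (Perm (Fin m)))) *
         (Perm.sign.comp (MonoidHom.snd (Perm (Fin (m + 1))) (Perm (Fin m))))).ker with hS
    have hSmem : ∀ q : Perm (Fin (m + 1)) × Perm (Fin m),
        q ∈ S ↔ Perm.sign q.1 * Perm.sign q.2 = 1 := fun q => Iff.rfl
    -- an element with odd first component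
    obtain ⟨x, hx⟩ : swap (0 : Fin (m + 1)) ⟨1, by omega⟩ ∈ e₁.f.range := htop ▸ mem_top _
    have hx1 : Perm.sign (e₁.f x) = -1 := by
      rw [hx, Perm.sign_swap]; simp [Fin.ext_iff]
    by_cases hle : Φ.range ≤ S
    · refine Or.inr ⟨(MonoidHom.ofInjective hΦ).trans (MulEquiv.subgroupCongr (le_antisymm hle ?_))⟩
      have hx2 : Perm.sign (ψ x) = -1 := by
        have h : Perm.sign (e₁.f x) * Perm.sign (ψ x) = 1 := (hSmem (Φ x)).1 (hle ⟨x, rfl⟩)
        rcases Int.units_eq_one_or (Perm.sign (ψ x)) with e | e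
        · rw [hx1, e] at h; exact absurd h (by decide)
        · exact e
      rintro ⟨σ, τ⟩ hq
      rw [hSmem] at hq
      rcases Int.units_eq_one_or (Perm.sign σ) with e | e
      · exact hprod ⟨e, by rw [e, one_mul] at hq; exact hq⟩
      · have hτ : Perm.sign τ = -1 := by
          rcases Int.units_eq_one_or (Perm.sign τ) with e' | e'
          · rw [e, e'] at hq; exact absurd hq (by decide)
          · exact e'
        have h5 := mul_mem (hprod (show (σ * (e₁.f x), τ * ψ x) ∈ (Alt (m + 1)).prod (Alt m) from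
          ⟨by show Perm.sign (σ * e₁.f x) = 1; rw [map_mul, e, hx1]; rfl,
           by show Perm.sign (τ * ψ x) = 1; rw [map_mul, hτ, hx2]; rfl⟩))
          (inv_mem ⟨x, rfl⟩ : (Φ x)⁻¹ ∈ Φ.range)
        rwa [show (σ * e₁.f x, τ * ψ x) * (Φ x)⁻¹ = (σ, τ) from
          Prod.ext (mul_inv_cancel_right σ _) (mul_inv_cancel_right τ _)] at h5
    · refine Or.inl ⟨(MonoidHom.ofInjective hΦ).trans
        ((MulEquiv.subgroupCongr (eq_top_iff.2 ?_)).trans Subgroup.topEquiv)⟩
      obtain ⟨_, ⟨y, rfl⟩, hy⟩ := SetLike.not_le_iff_exists.1 hle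
      rw [hSmem] at hy
      have hy' : Perm.sign (e₁.f y) * Perm.sign (ψ y) ≠ 1 := hy
      -- the range contains `(even, odd)` or `(odd, even)`, and surjects on both sides
      obtain ⟨z, hz⟩ : swap (⟨0, by omega⟩ : Fin m) ⟨1, by omega⟩ ∈ π.range := hπt ▸ mem_top _
      have hz2 : Perm.sign (ψ (Subgroup.inclusion inf_le_left z)) = -1 := by
        rw [hψE, hz, Perm.sign_swap]; simp [Fin.ext_iff]
      have key : ∀ u v : ℤˣ, ∃ w : M, Perm.sign (e₁.f w) = u ∧ Perm.sign (ψ w) = v := by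
        intro u v
        set z' := Subgroup.inclusion inf_le_left z
        have h11 : ∃ w : M, Perm.sign (e₁.f w) = 1 ∧ Perm.sign (ψ w) = 1 := ⟨1, by simp, by simp⟩
        rcases Int.units_eq_one_or (Perm.sign (e₁.f y)) with a | a <;>
          rcases Int.units_eq_one_or (Perm.sign (ψ y)) with b | b <;>
          rcases Int.units_eq_one_or (Perm.sign (ψ x)) with c | c <;>
          rcases Int.units_eq_one_or (Perm.sign (e₁.f z')) with d | d <;>
          rcases Int.units_eq_one_or u with rfl | rfl <;>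
          rcases Int.units_eq_one_or v with rfl | rfl <;>
          first
            | exact h11
            | (exfalso; exact hy' (by rw [a, b]; rfl))
            | exact ⟨x, hx1, c⟩
            | exact ⟨y, a, b⟩
            | exact ⟨z', d, hz2⟩
            | exact ⟨x * y, by rw [map_mul, map_mul, hx1, a]; rfl, by rw [map_mul, map_mul, c, b]; rfl⟩
            | exact ⟨z' * y, by rw [map_mul, map_mul, d, a]; rfl, by rw [map_mul, map_mul, hz2, b]; rfl⟩
      rintro ⟨σ, τ⟩ -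
      obtain ⟨w, hw1, hw2⟩ := key (Perm.sign σ) (Perm.sign τ)
      have h5 := mul_mem (hprod (show (σ * (e₁.f w)⁻¹, τ * (ψ w)⁻¹) ∈ (Alt (m + 1)).prod (Alt m) from
        ⟨by show Perm.sign (σ * (e₁.f w)⁻¹) = 1; rw [map_mul, map_inv, hw1, mul_inv_cancel],
         by show Perm.sign (τ * (ψ w)⁻¹) = 1; rw [map_mul, map_inv, hw2, mul_inv_cancel]⟩))
        (⟨w, rfl⟩ : Φ w ∈ Φ.range)
      rwa [show (σ * (e₁.f w)⁻¹, τ * (ψ w)⁻¹) * Φ w = (σ, τ) from
        Prod.ext (inv_mul_cancel_right σ _) (inv_mul_cancel_right τ _)] at h5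
  · left
    have hAeq : ∀ {n : ℕ} (P : Subgroup (Perm (Fin n))), 2 ≤ n → (Alt n) ≤ P → P ≠ ⊤ →
        P = Alt n := by
      intro n P hn hP hPne
      haveI : Nontrivial (Fin n) := Fin.nontrivial_iff_two_le.2 hn
      refine Perm.eq_alternatingGroup_of_index_eq_two ?_
      have hd := index_dvd_of_le hP
      rw [alternatingGroup.index_eq_two] at hd
      rcases (Nat.dvd_prime Nat.prime_two).1 hd with e | e
      · exact absurd (index_eq_one.1 e) hPne
      · exact e
    have hr1 : e₁.f.range = Alt (m + 1) := hAeq _ (by omega) h1 htop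
    haveI : Nontrivial (Fin (m + 1)) := Fin.nontrivial_iff_two_le.2 (by omega)
    refine ⟨by rw [hr1, alternatingGroup.index_eq_two], ?_⟩
    have hπne : π.range ≠ ⊤ := fun e => by
      have h := hπtop.1 e
      rw [h, card_top, hr1] at hcard
      have : 0 < Nat.card (Alt (m + 1)) := Nat.card_pos
      omega
    have hr2 : π.range = Alt m := hAeq _ (by omega) hπA hπne
    refine ⟨(MonoidHom.ofInjective hΦ).trans
      ((MulEquiv.subgroupCongr (le_antisymm ?_ hprod)).trans (Subgroup.prodEquiv _ _))⟩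
    rintro _ ⟨x, rfl⟩
    exact ⟨hr1 ▸ ⟨x, rfl⟩, hr2 ▸ hψR x⟩

end finite

end Cfsg.Agent.SuborbitAlt
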