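import Cfsg.Agent.Lib.Suborbit.Shift

/-!
Sims' theorem on amalgams of index `(3, 3)` with conjugate sides: the edge group has order `≤ 2^4`.
-/

set_option autoImplicit false

namespace Cfsg.Agent.Suborbit

open Subgroup

variable {G : Type*} [Group G]

/-- Conjugate subgroup `g K g⁻¹`. -/
def cs (g : G) (K : Subgroup G) : Subgroup G := K.map (MulAut.conj g).toMonoidHom

theorem mem_cs {g : G} {K : Subgroup G} {a : G} : a ∈ cs g K ↔ g⁻¹ * a * g ∈ K := by
  constructor
  · rintro ⟨b, hb, rfl⟩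
    simpa [MulAut.conj_apply, mul_assoc] using hb
  · intro h
    refine ⟨_, h, ?_⟩
    simp [mul_assoc]

theorem cs_mul (g h : G) (K : Subgroup G) : cs (g * h) K = cs g (cs h K) := by
  ext a
  simp [mem_cs, mul_assoc]

theorem cs_one (K : Subgroup G) : cs 1 K = K := by
  ext a
  simp [mem_cs]

theorem cs_mono {g : G} {K L : Subgroup G} (h : K ≤ L) : cs g K ≤ cs g L := map_mono h

theorem cs_inv_cs (g : G) (K : Subgroup G) : cs g⁻¹ (cs g K) = K := by
  rw [← cs_mul, inv_mul_cancel, cs_one]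

theorem cs_cs_inv (g : G) (K : Subgroup G) : cs g (cs g⁻¹ K) = K := by
  rw [← cs_mul, mul_inv_cancel, cs_one]

theorem cs_injective (g : G) : Function.Injective (cs g) := fun K L h => by
  rw [← cs_inv_cs g K, h, cs_inv_cs]

theorem card_cs (g : G) (K : Subgroup G) : Nat.card (cs g K) = Nat.card K :=
  card_map_of_injective (MulAut.conj g).injective

theorem cs_inf (g : G) (K L : Subgroup G) : cs g (K ⊓ L) = cs g K ⊓ cs g L :=
  map_inf _ _ _ (MulAut.conj g).injective

theorem cs_sup (g : G) (K L : Subgroup G) : cs g (K ⊔ L) = cs g K ⊔ cs g L := map_sup _ _ _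

theorem cs_eq_self_iff {g : G} {K : Subgroup G} : cs g K = K ↔ g ∈ normalizer (K : Set G) := by
  rw [mem_normalizer_iff]
  constructor
  · intro h a
    conv_rhs => rw [← h, mem_cs]
    simp [mul_assoc]
  · intro h
    ext a
    rw [mem_cs, h]
    simp [mul_assoc]

theorem cs_eq_self_of_mem {g : G} {K : Subgroup G} (h : g ∈ K) : cs g K = K :=
  cs_eq_self_iff.2 (le_normalizer h)

theorem le_normalizer_cs {g : G} {H K : Subgroup G} (h : H ≤ normalizer (K : Set G)) :
    cs g H ≤ normalizer (cs g K : Set G) := by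
  intro a ha
  rw [← cs_eq_self_iff]
  have h1 := cs_eq_self_iff.2 (h (mem_cs.1 ha))
  calc cs a (cs g K) = cs g (cs (g⁻¹ * a * g) K) := by rw [← cs_mul, ← cs_mul]; congr 1; group
    _ = cs g K := by rw [h1]

/-- The edge group. -/
def cubC (A : Subgroup G) (x : G) : Subgroup G := A ⊓ cs x A

/-- Two conjugate subgroups meeting in a common subgroup of index 3, without common normal
subgroups. -/
structure Cub (A : Subgroup G) (x s : G) : Prop where
  max : ∀ N : Subgroup G, N ≤ A → N ≠ ⊥ → A ≤ normalizer (N : Set G) → normalizer (N : Set G) ≤ A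
  xmem : x ∉ A
  xC : cs x (cubC A x) = cubC A x
  sA : s ∈ A
  s3 : s ^ 3 = 1
  cardA : Nat.card A = 3 * Nat.card (cubC A x)
  twoC : IsPGroup 2 (cubC A x)
  notnorm : cs s (cubC A x) ≠ cubC A x
  qindex : Nat.card (cubC A x) = 2 * Nat.card (cubC A x ⊓ cs s (cubC A x) : Subgroup G)
  qnorm : A ≤ normalizer ((cubC A x ⊓ cs s (cubC A x) : Subgroup G) : Set G)

variable [Finite G] {A : Subgroup G} {x s : G}

theorem cs_eq_of_le {g : G} {K : Subgroup G} (h : cs g K ≤ K) : cs g K = K :=
  eq_of_le_of_card_ge h (card_cs g K).ge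

namespace Cub

theorem hCA : cubC A x ≤ A := inf_le_left

variable (h : Cub A x s)
include h

theorem csC_le : cs s (cubC A x) ≤ A := (cs_mono hCA).trans (cs_eq_self_of_mem h.sA).le

theorem gen : cubC A x ⊔ cs s (cubC A x) = A := by
  set C := cubC A x
  set H := C ⊔ cs s C
  have hle : H ≤ A := sup_le hCA h.csC_le
  refine eq_of_le_of_card_ge hle ?_
  obtain ⟨k, hk⟩ : Nat.card C ∣ Nat.card H := card_dvd_of_le le_sup_left
  have hd : Nat.card C * k ∣ Nat.card C * 3 := by
    rw [← hk, mul_comm _ 3, ← h.cardA]; exact card_dvd_of_le hle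
  rcases (Nat.dvd_prime Nat.prime_three).1 (Nat.dvd_of_mul_dvd_mul_left Nat.card_pos hd) with rfl | rfl
  · exact absurd (cs_eq_of_le (le_sup_right.trans (eq_of_le_of_card_ge le_sup_left (by rw [hk, mul_one])).ge))
      h.notnorm
  · rw [hk, h.cardA, mul_comm]

theorem gen_y : cubC A x ⊔ cs (x * s) (cubC A x) = cs x A := by
  conv_rhs => rw [← h.gen, cs_sup, h.xC, ← cs_mul]

theorem cs_inv_y : cs (x * s)⁻¹ (cs x A) = A := by
  rw [← cs_mul, show (x * s)⁻¹ * x = s⁻¹ by group]
  exact cs_eq_self_of_mem (inv_mem h.sA)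

theorem gen_y' : cubC A x ⊔ cs (x * s)⁻¹ (cubC A x) = A := by
  have := congrArg (cs (x * s)⁻¹) h.gen_y
  rwa [cs_sup, cs_inv_cs, h.cs_inv_y, sup_comm] at this

theorem y_not_mem : x * s ∉ A := fun hy => h.xmem (by
  simpa using mul_mem hy (inv_mem h.sA))

theorem false_of_both {N : Subgroup G} (hN : N ≤ A) (hne : N ≠ ⊥) (h1 : A ≤ normalizer (N : Set G))
    (h2 : cs x A ≤ normalizer (N : Set G)) : False := by
  have h3 : cs x A = A := cs_eq_of_le (h2.trans (h.max N hN hne h1))
  have hA : A ≠ ⊥ := fun e => hne (le_bot_iff.1 (e ▸ hN))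
  exact h.xmem (h.max A le_rfl hA le_normalizer (cs_eq_self_iff.1 h3))

theorem normalizer_of_C_s {K : Subgroup G} (hC : cubC A x ≤ normalizer (K : Set G))
    (hs : cs s K = K) : A ≤ normalizer (K : Set G) := by
  rw [← h.gen]
  refine sup_le hC ?_
  intro a ha
  have hs' := cs_eq_self_iff.1 hs
  have := mul_mem (mul_mem hs' (hC (mem_cs.1 ha))) (inv_mem hs')
  simpa [mul_assoc] using this

end Cub

/-- The chain of stabilisers of bent paths. -/
def chain (C : Subgroup G) (y : G) : ℕ → Subgroup G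
  | 0 => C
  | k + 1 => C ⊓ cs y (chain C y k)

variable {C : Subgroup G} {y : G}

omit [Finite G] in
theorem chain_succ_le : ∀ k, chain C y (k + 1) ≤ chain C y k
  | 0 => inf_le_left
  | k + 1 => inf_le_inf_left _ (cs_mono (chain_succ_le k))

omit [Finite G] in
theorem chain_le : ∀ k, chain C y k ≤ C
  | 0 => le_rfl
  | _ + 1 => inf_le_left

omit [Finite G] in
theorem chain_le_cs (k : ℕ) : chain C y (k + 1) ≤ cs y (chain C y k) := inf_le_right

theorem chain_card (hC : IsPGroup 2 C) (h1 : Nat.card C ≤ 2 * Nat.card (chain C y 1)) :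
    ∀ k, Nat.card (chain C y k) = Nat.card (chain C y (k + 1)) ∨
      Nat.card (chain C y k) = 2 * Nat.card (chain C y (k + 1)) := by
  have key : ∀ k, (chain C y (k + 1)).relIndex (chain C y k) ≤ 2 := by
    intro k
    induction k with
    | zero =>
      have hm := card_mul_index ((chain C y 1).subgroupOf C)
      rw [Nat.card_congr (subgroupOfEquivOfLe (chain_le 1)).toEquiv] at hm
      show (chain C y 1).relIndex C ≤ 2
      rw [relIndex]
      have hp : 0 < Nat.card (chain C y 1) := Nat.card_pos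
      nlinarith
    | succ k ih =>
      have e1 : (chain C y (k + 2)).relIndex (chain C y (k + 1)) =
          (cs y (chain C y (k + 1))).relIndex (chain C y (k + 1)) := by
        rw [← inf_relIndex_right, ← inf_relIndex_right (cs y (chain C y (k + 1)))]
        congr 1
        show C ⊓ cs y (chain C y (k + 1)) ⊓ chain C y (k + 1) = _
        rw [inf_right_comm, inf_eq_right.2 (chain_le (k + 1)), inf_comm]
      rw [e1]
      refine (relIndex_le_of_le_right (chain_le_cs k) ?_).trans ?_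
      · exact fun h0 => index_ne_zero_of_finite h0
      · rw [cs, cs, relIndex_map_map_of_injective _ _ (MulAut.conj y).injective]
        exact ih
  intro k
  have hle := chain_succ_le (C := C) (y := y) k
  have hm := card_mul_index ((chain C y (k + 1)).subgroupOf (chain C y k))
  rw [Nat.card_congr (subgroupOfEquivOfLe hle).toEquiv] at hm
  have hk := key k
  rw [relIndex] at hk
  have h0 : ((chain C y (k + 1)).subgroupOf (chain C y k)).index ≠ 0 := index_ne_zero_of_finite
  rcases (show ((chain C y (k + 1)).subgroupOf (chain C y k)).index = 1 ∨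
      ((chain C y (k + 1)).subgroupOf (chain C y k)).index = 2 by omega) with e | e
  · left; rw [← hm, e, mul_one]
  · right; rw [← hm, e, mul_comm]

theorem chain_stable {k : ℕ} (hk : chain C y (k + 1) = chain C y k) :
    cs y (chain C y k) = chain C y k :=
  (eq_of_le_of_card_ge (hk.symm.le.trans (chain_le_cs k)) (card_cs _ _).le).symm

namespace Cub

variable (h : Cub A x s)
include h

/-- The shift sequence of a cubic amalgam. -/
theorem exists_shift : ∃ (n : ℕ) (e : ℤ → G), 1 ≤ n ∧ Shift e (x * s) n ∧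
    iv e 0 n = cubC A x ∧ Nat.card (cubC A x) = 2 ^ n := by
  classical
  set C := cubC A x with hC
  set y := x * s
  set D := chain C y with hD
  have hD1 : D 1 = cs x (C ⊓ cs s C) := by
    show C ⊓ cs y (D 0) = _
    rw [cs_inf, ← cs_mul, h.xC]
    rfl
  have hcard1 : Nat.card C = 2 * Nat.card (D 1) := by rw [hD1, card_cs]; exact h.qindex
  have hdrop := chain_card h.twoC hcard1.le
  have hex : ∃ k, D (k + 1) = D k := by
    by_contra hno
    push Not at hno
    have hlt : ∀ k, Nat.card (D k) + k ≤ Nat.card (D 0) := fun k => by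
      induction k with
      | zero => simp
      | succ k ih =>
        have hk : Nat.card (D (k + 1)) < Nat.card (D k) :=
          lt_of_not_ge fun hge => hno k (eq_of_le_of_card_ge (chain_succ_le k) hge)
        omega
    have := hlt (Nat.card (D 0))
    have : 0 < Nat.card (D (Nat.card (D 0))) := Nat.card_pos
    omega
  set n := Nat.find hex with hn
  have hspec : D (n + 1) = D n := Nat.find_spec hex
  have hstrict : ∀ j < n, Nat.card (D j) = 2 * Nat.card (D (j + 1)) := fun j hj =>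
    (hdrop j).resolve_left fun he =>
      Nat.find_min hex hj (eq_of_le_of_card_ge (chain_succ_le j) he.le)
  have hn1 : 1 ≤ n := by
    refine Nat.one_le_iff_ne_zero.2 fun h0 => ?_
    rw [h0] at hspec
    rw [show Nat.card C = Nat.card (D 0) from rfl, ← hspec] at hcard1
    simp only [zero_add] at hcard1
    have : 0 < Nat.card (D 1) := Nat.card_pos
    omega
  have hjoin : ∀ j, j + 1 < n → D (j + 1) ⊔ cs y⁻¹ (D (j + 1)) = D j := by
    intro j hj
    have hle2 : cs y⁻¹ (D (j + 1)) ≤ D j := (cs_mono (chain_le_cs j)).trans (cs_inv_cs _ _).le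
    have hle : D (j + 1) ⊔ cs y⁻¹ (D (j + 1)) ≤ D j := sup_le (chain_succ_le j) hle2
    by_contra hne
    obtain ⟨k, hk⟩ := card_dvd_of_le (le_sup_left : D (j + 1) ≤ D (j + 1) ⊔ cs y⁻¹ (D (j + 1)))
    have hd : Nat.card (D (j + 1)) * k ∣ Nat.card (D (j + 1)) * 2 := by
      rw [← hk, mul_comm _ 2, ← hstrict j (by omega)]; exact card_dvd_of_le hle
    rcases (Nat.dvd_prime Nat.prime_two).1 (Nat.dvd_of_mul_dvd_mul_left Nat.card_pos hd) with rfl | rfl
    · have e1 : cs y⁻¹ (D (j + 1)) = D (j + 1) :=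
        cs_eq_of_le (le_sup_right.trans (eq_of_le_of_card_ge le_sup_left (by rw [hk, mul_one])).ge)
      have e2 : cs y (D (j + 1)) = D (j + 1) := by
        conv_lhs => rw [← e1, cs_cs_inv]
      have e3 : D (j + 2) = D (j + 1) := by
        show C ⊓ cs y (D (j + 1)) = _
        rw [e2, inf_eq_right.2 (chain_le _)]
      exact Nat.find_min hex hj e3
    · exact hne (eq_of_le_of_card_ge hle (by rw [hk, hstrict j (by omega), mul_comm]))
  have hbot : D n = ⊥ := by
    set N := normalizer (D n : Set G)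
    have hy : y ∈ N := cs_eq_self_iff.1 (chain_stable hspec)
    have hdn : ∀ d, d + 1 ≤ n → D (n - 1 - d) ≤ N := by
      intro d
      induction d with
      | zero =>
        intro _
        have hidx : ((D n).subgroupOf (D (n - 1))).index = 2 := by
          have hle : D n ≤ D (n - 1) := by
            have := chain_succ_le (C := C) (y := y) (n - 1)
            rwa [Nat.sub_add_cancel hn1] at this
          have hm := card_mul_index ((D n).subgroupOf (D (n - 1)))
          have h2 := hstrict (n - 1) (by omega)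
          rw [Nat.sub_add_cancel hn1] at h2
          rw [Nat.card_congr (subgroupOfEquivOfLe hle).toEquiv, h2, mul_comm 2] at hm
          exact Nat.eq_of_mul_eq_mul_left Nat.card_pos hm
        have := normal_of_index_eq_two hidx
        intro g hg
        refine cs_eq_self_iff.1 (cs_eq_of_le fun a ha => ?_)
        have hgi : g⁻¹ * a * g ∈ D n := mem_cs.1 ha
        have hle : D n ≤ D (n - 1) := by
          have := chain_succ_le (C := C) (y := y) (n - 1)
          rwa [Nat.sub_add_cancel hn1] at this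
        have := this.conj_mem ⟨_, hle hgi⟩ hgi ⟨g, hg⟩
        simpa [mem_subgroupOf, mul_assoc] using this
      | succ d ih =>
        intro hd
        have hj := hjoin (n - 1 - (d + 1)) (by omega)
        rw [show n - 1 - (d + 1) + 1 = n - 1 - d by omega] at hj
        rw [← hj]
        refine sup_le (ih (by omega)) fun a ha => ?_
        have := mul_mem (mul_mem (inv_mem hy) (ih (by omega) (mem_cs.1 ha))) hy
        simpa [mul_assoc] using this
    have hCN : C ≤ N := by
      have := hdn (n - 1) (by omega)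
      rwa [Nat.sub_self] at this
    have hBN : cs x A ≤ N := by
      rw [← h.gen_y]
      refine sup_le hCN fun a ha => ?_
      rw [show a = y * (y⁻¹ * a * y) * y⁻¹ by group]
      exact mul_mem (mul_mem hy (hCN (mem_cs.1 ha))) (inv_mem hy)
    have hAN : A ≤ N := by
      rw [← h.cs_inv_y]
      intro a ha
      rw [show a = y⁻¹ * (y⁻¹⁻¹ * a * y⁻¹) * y by group]
      exact mul_mem (mul_mem (inv_mem hy) (hBN (mem_cs.1 ha))) hy
    by_contra hne
    exact h.y_not_mem (h.max (D n) ((chain_le n).trans hCA) hne hAN hy)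
  have hpow : ∀ j ≤ n, Nat.card (D j) = 2 ^ (n - j) := by
    intro j hj
    obtain ⟨d, rfl⟩ : ∃ d, j = n - d := ⟨n - j, by omega⟩
    clear hj
    induction d with
    | zero => simp [hbot]
    | succ d ih =>
      by_cases hd : d < n
      · rw [hstrict (n - (d + 1)) (by omega), show n - (d + 1) + 1 = n - d by omega, ih,
          show n - (n - (d + 1)) = n - (n - d) + 1 by omega, pow_succ, mul_comm]
      · rw [show n - (d + 1) = n - d by omega, ih]
  have hf : ∃ f, D (n - 1) = zpowers f := by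
    have hc : Nat.card (D (n - 1)) = 2 := by
      rw [hpow _ (by omega), show n - (n - 1) = 1 by omega, pow_one]
    have : Fact (Nat.Prime 2) := ⟨Nat.prime_two⟩
    obtain ⟨f, hf⟩ := exists_prime_orderOf_dvd_card' (G := D (n - 1)) 2 (by rw [hc])
    exact ⟨f, (eq_of_le_of_card_ge (zpowers_le.2 f.2) (by
      rw [hc, Nat.card_zpowers, orderOf_coe, hf])).symm⟩
  obtain ⟨f, hf⟩ := hf
  set e : ℤ → G := fun i => y ^ (i - ((n : ℤ) - 1)) * f * (y ^ (i - ((n : ℤ) - 1)))⁻¹ with he
  have hshift : ∀ i, y * e i * y⁻¹ = e (i + 1) := fun i => by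
    simp only [he]
    rw [show i + 1 - ((n : ℤ) - 1) = 1 + (i - ((n : ℤ) - 1)) by ring, zpow_add, zpow_one]
    group
  have hconj : ∀ (k i : ℤ), y ^ k * e i * (y ^ k)⁻¹ = e (i + k) := fun k i => by
    simp only [he]
    rw [show i + k - ((n : ℤ) - 1) = k + (i - ((n : ℤ) - 1)) by ring, zpow_add]
    group
  have hcsiv : ∀ (k a : ℤ) (L : ℕ), cs (y ^ k) (iv e a L) = iv e (a + k) L := by
    intro k a L
    rw [cs, iv, MonoidHom.map_closure]
    refine congrArg Subgroup.closure ?_
    ext g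
    constructor
    · rintro ⟨_, ⟨m, ⟨hm1, hm2⟩, rfl⟩, rfl⟩
      exact ⟨m + k, ⟨by omega, by omega⟩, (hconj k m).symm⟩
    · rintro ⟨m, ⟨hm1, hm2⟩, rfl⟩
      refine ⟨e (m - k), ⟨m - k, ⟨by omega, by omega⟩, rfl⟩, ?_⟩
      show y ^ k * e (m - k) * (y ^ k)⁻¹ = e m
      rw [hconj, sub_add_cancel]
  have hiv : ∀ L, 1 ≤ L → L ≤ n → iv e 0 L = cs (y ^ (-((n : ℤ) - L))) (D (n - L)) := by
    intro L hL
    induction L, hL using Nat.le_induction with
    | base =>
      intro _
      rw [hf, iv_one, cs, MonoidHom.map_zpowers, MulEquiv.coe_toMonoidHom, MulAut.conj_apply]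
      simp only [he]
      congr <;> push_cast <;> ring
    | succ L hL ih =>
      intro hLn
      have hj := hjoin (n - (L + 1)) (by omega)
      rw [show n - (L + 1) + 1 = n - L by omega] at hj
      rw [← hj, cs_sup, ← cs_mul]
      rw [show y ^ (-((n : ℤ) - ((L + 1 : ℕ) : ℤ))) * y⁻¹ = y ^ (-((n : ℤ) - L)) by
        rw [← zpow_neg_one, ← zpow_add]; congr 1; push_cast; ring]
      rw [← ih (by omega), show y ^ (-((n : ℤ) - ((L + 1 : ℕ) : ℤ))) = y ^ (1 : ℤ) * y ^ (-((n : ℤ) - L)) by
        rw [← zpow_add]; congr 1; push_cast; ring, cs_mul, ← ih (by omega), hcsiv, zero_add,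
        iv, iv, iv, ← Subgroup.closure_union, ← Set.image_union]
      congr 2
      ext m
      simp only [Set.mem_Ico, Set.mem_union]
      push_cast
      omega
  have hC0 : iv e 0 n = C := by
    rw [hiv n hn1 le_rfl]
    simp [cs_one, hD, chain]
  refine ⟨n, e, hn1, ⟨hshift, fun a L hL => ?_⟩, hC0, ?_⟩
  · rcases Nat.eq_zero_or_pos L with rfl | hL1
    · simp [iv_zero]
    · have := hcsiv a 0 L
      rw [zero_add] at this
      rw [← this, card_cs, hiv L hL1 hL, card_cs, hpow _ (by omega), show n - (n - L) = L by omega]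
  · exact hpow 0 (Nat.zero_le _)

variable {n : ℕ} {e : ℤ → G} (hs : Shift e (x * s) n) (hC0 : iv e 0 n = cubC A x)

omit h [Finite G] in
include hs in
theorem cs_y_iv (a : ℤ) (L : ℕ) : cs (x * s) (iv e a L) = iv e (a + 1) L := by
  rw [cs, iv, MonoidHom.map_closure]
  refine congrArg Subgroup.closure ?_
  ext g
  constructor
  · rintro ⟨_, ⟨m, ⟨hm1, hm2⟩, rfl⟩, rfl⟩
    exact ⟨m + 1, ⟨by omega, by omega⟩, (hs.shift m).symm⟩
  · rintro ⟨m, ⟨hm1, hm2⟩, rfl⟩
    refine ⟨e (m - 1), ⟨m - 1, ⟨by omega, by omega⟩, rfl⟩, ?_⟩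
    show x * s * e (m - 1) * (x * s)⁻¹ = e m
    rw [hs.shift, sub_add_cancel]

omit h [Finite G] in
include hs in
theorem cs_y_inv_iv (a : ℤ) (L : ℕ) : cs (x * s)⁻¹ (iv e a L) = iv e (a - 1) L := by
  have := cs_y_iv hs (a - 1) L
  rw [sub_add_cancel] at this
  rw [← this, cs_inv_cs]

include hs hC0 in
theorem A_le {H : Subgroup G} (hH : ∀ m : ℤ, -1 ≤ m → m < n → e m ∈ H) : A ≤ H := by
  rw [← h.gen_y', ← hC0, cs_y_inv_iv hs]
  refine sup_le ((closure_le _).2 ?_) ((closure_le _).2 ?_) <;>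
    rintro _ ⟨m, ⟨h1, h2⟩, rfl⟩ <;> exact hH m (by omega) (by omega)

include hs hC0 in
theorem B_le {H : Subgroup G} (hH : ∀ m : ℤ, 0 ≤ m → m ≤ n → e m ∈ H) : cs x A ≤ H := by
  rw [← h.gen_y, ← hC0, cs_y_iv hs]
  refine sup_le ((closure_le _).2 ?_) ((closure_le _).2 ?_) <;>
    rintro _ ⟨m, ⟨h1, h2⟩, rfl⟩ <;> exact hH m (by omega) (by omega)

include hs hC0 in
/-- A common central element is trivial. -/
theorem eq_one_of_central {w : G} (hw : w ∈ A)
    (hc : ∀ m : ℤ, -1 ≤ m → m ≤ n → Commute w (e m)) : w = 1 := by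
  by_contra hne
  have key : ∀ m : ℤ, -1 ≤ m → m ≤ n → e m ∈ normalizer (zpowers w : Set G) := fun m h1 h2 => by
    refine cs_eq_self_iff.1 (by
      rw [cs, MonoidHom.map_zpowers]
      congr 1
      show e m * w * (e m)⁻¹ = w
      rw [← (hc m h1 h2).eq]; group)
  exact h.false_of_both (zpowers_le.2 hw) (zpowers_ne_bot.2 hne)
    (h.A_le hs hC0 fun m h1 h2 => key m h1 (by omega))
    (h.B_le hs hC0 fun m h1 h2 => key m (by omega) h2)

include hs hC0 in
theorem q_eq (hn : 1 ≤ n) : iv e 0 (n - 1) = cubC A x ⊓ cs s (cubC A x) := by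
  have hQ : cs s⁻¹ (cubC A x ⊓ cs s (cubC A x)) = cubC A x ⊓ cs s (cubC A x) :=
    cs_eq_self_iff.2 (h.qnorm (inv_mem h.sA))
  have hci : cs (x * s)⁻¹ (cubC A x) = cs s⁻¹ (cubC A x) := by
    rw [mul_inv_rev, cs_mul]
    congr 1
    conv_lhs => rw [← h.xC, cs_inv_cs]
  have hle : iv e 0 (n - 1) ≤ cubC A x ⊓ cs s (cubC A x) := by
    rw [← hQ, cs_inf, cs_inv_cs, inf_comm, ← hci]
    refine le_inf ?_ ?_
    · rw [← hC0]; exact iv_le le_rfl (by omega)
    · rw [← hC0, cs_y_inv_iv hs]; exact iv_le (by omega) (by omega)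
  refine eq_of_le_of_card_ge hle ?_
  have h2 := h.qindex
  rw [← hC0, hs.card 0 n le_rfl, hC0] at h2
  rw [hs.card 0 (n - 1) (by omega)]
  have : 2 ^ n = 2 * 2 ^ (n - 1) := by rw [← pow_succ', Nat.sub_add_cancel hn]
  omega

variable {l : ℕ} (hw : Width e n l)

include hs hC0 hw in
theorem width_bound (hn : 1 ≤ n) : l = n ∧ n ≤ 2 ∨ l < n ∧ 2 * l ≤ n + 2 := by
  have mem : ∀ m : ℤ, 0 ≤ m → m < n → e m ∈ A := fun m h1 h2 =>
    hCA (hC0 ▸ mem_iv h1 (by omega))
  rcases eq_or_lt_of_le hw.2.1 with hl | hl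
  · left
    refine ⟨hl, ?_⟩
    by_contra hn3
    exact hs.ne_one hn 1 (h.eq_one_of_central hs hC0 (mem 1 (by omega) (by omega))
      fun m h1 h2 => hw.2.2.1 _ _ (by omega) (by omega))
  · right
    refine ⟨hl, ?_⟩
    by_contra h3
    exact hs.ne_one hn ((l : ℤ) - 2) (h.eq_one_of_central hs hC0 (mem _ (by omega) (by omega))
      fun m h1 h2 => hw.2.2.1 _ _ (by omega) (by omega))

end Cub

theorem sq_eq_one_of_commuting {S : Set G} (h1 : ∀ a ∈ S, a * a = 1)
    (h2 : ∀ a ∈ S, ∀ b ∈ S, Commute a b) {g : G} (hg : g ∈ closure S) : g * g = 1 := by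
  induction hg using closure_induction with
  | mem a ha => exact h1 a ha
  | one => simp
  | mul a b ha hb ia ib =>
    have hc : Commute a b := commute_of_mem_closure
      (fun u hu => (commute_of_mem_closure (fun v hv => h2 u hu v hv) ha).symm) hb
    calc a * b * (a * b) = a * (b * a) * b := by group
      _ = (a * a) * (b * b) := by rw [← hc.eq]; group
      _ = 1 := by rw [ia, ib, one_mul]
  | inv a _ ia => rw [← mul_inv_rev, ia, inv_one]

theorem iv_sq_eq_one {e : ℤ → G} {n l : ℕ} {y : G} (hs : Shift e y n) (hn : 1 ≤ n)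
    (hw : Width e n l) {a : ℤ} {L : ℕ} (hL : L ≤ l) {g : G} (hg : g ∈ iv e a L) : g * g = 1 :=
  sq_eq_one_of_commuting (S := e '' Set.Ico a (a + L))
    (by rintro _ ⟨m, -, rfl⟩; exact hs.mul_self hn m)
    (by rintro _ ⟨i, hi, rfl⟩ _ ⟨j, hj, rfl⟩; exact hw.2.2.1 i j (by simp at hi hj; omega) (by simp at hi hj; omega))
    hg

namespace Cub

variable (h : Cub A x s) {n : ℕ} {e : ℤ → G} (hs : Shift e (x * s) n) (hC0 : iv e 0 n = cubC A x)
  {l : ℕ} (hw : Width e n l)
include h hs hC0 hw

theorem not_six (hn : n = 6) (hl : l = 4) : False := by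
  subst hn hl
  have hc : e 0 * e 4 * (e 0)⁻¹ * (e 4)⁻¹ = e 2 := by
    have h1 := (hs.commutator_interval hw (by norm_num)).2
    have h2 : e 0 * e 4 * (e 0)⁻¹ * (e 4)⁻¹ ∈ zpowers (e 2) := by
      rw [← iv_one]
      simpa using h1
    obtain ⟨k, hk⟩ := h2
    simp only at hk
    rcases Int.even_or_odd k with ⟨j, rfl⟩ | ⟨j, rfl⟩
    · exfalso
      rw [← two_mul, zpow_mul, zpow_two, hs.mul_self (by norm_num), one_zpow] at hk
      refine hw.2.2.2.resolve_left (by norm_num) 0 ?_
      have h' := mul_inv_eq_one.1 hk.symm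
      norm_num
      exact (mul_inv_eq_iff_eq_mul.1 h' : e 0 * e 4 = e 4 * e 0)
    · rw [zpow_add, zpow_mul, zpow_two, hs.mul_self (by norm_num), one_zpow, zpow_one, one_mul] at hk
      exact hk.symm
  set E := iv e 1 4 with hE
  set F := iv e 0 4 with hF
  have hQ := h.q_eq hs hC0 (by norm_num)
  norm_num at hQ
  set Q := cubC A x ⊓ cs s (cubC A x)
  have hQn : cs s Q = Q := cs_eq_self_iff.2 (h.qnorm h.sA)
  have he4F : e 4 ∉ F := fun hmem => by
    have hle : iv e 0 5 ≤ F := (closure_le _).2 (by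
      rintro _ ⟨m, ⟨h1, h2⟩, rfl⟩
      by_cases hm : m = 4
      · exact hm ▸ hmem
      · exact mem_iv h1 (by push_cast at h2 ⊢; omega))
    have := card_le_of_le hle
    rw [hs.card 0 5 (by norm_num), hs.card 0 4 (by norm_num)] at this
    norm_num at this
  have hinv : ∀ g ∈ Q, g * g = 1 → g ∈ E ∨ g ∈ F := by
    intro g hg hgg
    by_contra hno
    push Not at hno
    rw [← hQ] at hg
    have h1 : e 0 * g ∈ E := hs.mul_bot (a := 0) (L := 4) (by norm_num) hg hno.1
    by_cases hZ : e 0 * g ∈ iv e 1 3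
    · refine hno.2 ?_
      have : g = (e 0)⁻¹ * (e 0 * g) := by group
      rw [this]
      exact mul_mem (inv_mem (mem_iv le_rfl (by norm_num))) (iv_le (by norm_num) (by norm_num) hZ)
    · have h2 := hs.mul_top (a := 1) (L := 3) (by norm_num) h1 hZ
      norm_num at h2
      set u := e 0 * g * e 4 with hu
      have c0 : Commute (e 0) u := commute_iv h2 fun m m1 m2 => hw.2.2.1 _ _ (by omega) (by omega)
      have c4 : Commute (e 4) u := commute_iv h2 fun m m1 m2 => hw.2.2.1 _ _ (by omega) (by omega)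
      have i0 : (e 0)⁻¹ = e 0 := inv_eq_of_mul_eq_one_right (hs.mul_self (by norm_num) 0)
      have i4 : (e 4)⁻¹ = e 4 := inv_eq_of_mul_eq_one_right (hs.mul_self (by norm_num) 4)
      have hg' : g = e 0 * u * e 4 := by
        rw [hu]
        calc g = ((e 0)⁻¹ * e 0) * g * (e 4 * (e 4)⁻¹) := by group
          _ = _ := by rw [i0, i4]; group
      have huu : u * u = 1 := iv_sq_eq_one hs (by norm_num) hw (by norm_num) h2
      apply hs.ne_one (by norm_num) 2
      rw [← hc, i0, i4, ← hgg, hg']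
      calc e 0 * e 4 * e 0 * e 4 = (u * u) * (e 0 * e 4 * e 0 * e 4) := by rw [huu, one_mul]
        _ = u * (u * e 0) * e 4 * e 0 * e 4 := by group
        _ = u * (e 0 * u) * e 4 * e 0 * e 4 := by rw [c0.eq]
        _ = (u * e 0) * (u * e 4) * e 0 * e 4 := by group
        _ = (e 0 * u) * (e 4 * u) * e 0 * e 4 := by rw [← c0.eq, ← c4.eq]
        _ = e 0 * u * e 4 * (u * e 0) * e 4 := by group
        _ = e 0 * u * e 4 * (e 0 * u * e 4) := by rw [← c0.eq]; group
  have hdich : ∀ S : Subgroup G, S ≤ Q → Nat.card S = 16 → (∀ g ∈ S, g * g = 1) → S = E ∨ S = F := by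
    intro S hSQ hS hexp
    rcases (show S ≤ E ∨ S ≤ F by
      by_contra hno
      push Not at hno
      obtain ⟨a, ha, haE⟩ := SetLike.not_le_iff_exists.1 hno.1
      obtain ⟨b, hb, hbF⟩ := SetLike.not_le_iff_exists.1 hno.2
      have haF := (hinv a (hSQ ha) (hexp a ha)).resolve_left haE
      have hbE := (hinv b (hSQ hb) (hexp b hb)).resolve_right hbF
      rcases hinv _ (hSQ (mul_mem ha hb)) (hexp _ (mul_mem ha hb)) with h' | h'
      · exact haE (by simpa using mul_mem h' (inv_mem hbE))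
      · exact hbF (by simpa using mul_mem (inv_mem haF) h')) with hle | hle
    · exact Or.inl (eq_of_le_of_card_ge hle (by rw [hs.card 1 4 (by norm_num), hS]; norm_num))
    · exact Or.inr (eq_of_le_of_card_ge hle (by rw [hs.card 0 4 (by norm_num), hS]; norm_num))
  have hEQ : E ≤ Q := hQ ▸ iv_le (by norm_num) (by norm_num)
  have hFQ : F ≤ Q := hQ ▸ iv_le (by norm_num) (by norm_num)
  have himg : ∀ S : Subgroup G, S ≤ Q → Nat.card S = 16 → (∀ g ∈ S, g * g = 1) →
      cs s S = E ∨ cs s S = F := by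
    intro S h1 h2 h3
    refine hdich _ ((cs_mono h1).trans hQn.le) (by rw [card_cs, h2]) fun g hg => ?_
    have := h3 _ (mem_cs.1 hg)
    calc g * g = s * (s⁻¹ * g * s * (s⁻¹ * g * s)) * s⁻¹ := by group
      _ = 1 := by rw [this]; group
  have hEF : E ≠ F := fun e' => he4F (e' ▸ mem_iv (by norm_num) (by norm_num))
  have hsE := himg E hEQ (by rw [hs.card 1 4 (by norm_num)]; norm_num)
    fun g hg => iv_sq_eq_one hs (by norm_num) hw (by norm_num) hg
  have hsF := himg F hFQ (by rw [hs.card 0 4 (by norm_num)]; norm_num)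
    fun g hg => iv_sq_eq_one hs (by norm_num) hw (by norm_num) hg
  have hsE' : cs s E = E := hsE.resolve_right fun hh => by
    have hF' : cs s F = E := hsF.resolve_right fun h' => hEF (cs_injective s (hh.trans h'.symm))
    apply hEF
    calc E = cs (s ^ 3) E := by rw [h.s3, cs_one]
      _ = cs s (cs s (cs s E)) := by rw [pow_succ, pow_two, cs_mul, cs_mul]
      _ = F := by rw [hh, hF', hh]
  have hsF' : cs s F = F := hsF.resolve_left fun hh => hEF (cs_injective s (hsE'.trans hh.symm))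
  have hxQ : cs x Q = iv e 1 5 := by
    rw [← hQ, show iv e 1 5 = cs (x * s) (iv e 0 5) by rw [cs_y_iv hs]; rfl, cs_mul, hQ, hQn]
  have hQC : Q ≤ cubC A x := inf_le_left
  have hidx : ∀ K : Subgroup G, K ≤ cubC A x → Nat.card K = 32 →
      cubC A x ≤ normalizer (K : Set G) := by
    intro K hK hc' g hg
    have hi : (K.subgroupOf (cubC A x)).index = 2 := by
      have hm := card_mul_index (K.subgroupOf (cubC A x))
      rw [Nat.card_congr (subgroupOfEquivOfLe hK).toEquiv, hc', ← hC0, hs.card 0 6 le_rfl] at hm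
      rw [← hC0]
      norm_num at hm ⊢
      omega
    have := normal_of_index_eq_two hi
    refine cs_eq_self_iff.1 (cs_eq_of_le fun a ha => ?_)
    have hgi : g⁻¹ * a * g ∈ K := mem_cs.1 ha
    have := this.conj_mem ⟨_, hK hgi⟩ hgi ⟨g, hg⟩
    simpa [mem_subgroupOf, mul_assoc] using this
  have hQ32 : Nat.card Q = 32 := by rw [← hQ, hs.card 0 5 (by norm_num)]; norm_num
  have hxQC : cs x Q ≤ cubC A x := (cs_mono hQC).trans h.xC.le
  have hEeq : E = Q ⊓ cs x Q := by
    refine eq_of_le_of_card_ge (le_inf hEQ (hxQ ▸ iv_le le_rfl (by norm_num))) ?_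
    rw [hs.card 1 4 (by norm_num)]
    obtain ⟨k, hk, hd⟩ := (Nat.dvd_prime_pow Nat.prime_two).1
      (show Nat.card (Q ⊓ cs x Q : Subgroup G) ∣ 2 ^ 5 by
        rw [show (2 : ℕ) ^ 5 = Nat.card Q by rw [hQ32]; norm_num]
        exact card_dvd_of_le inf_le_left)
    rw [hd]
    refine Nat.pow_le_pow_right two_pos ?_
    by_contra hk4
    have e1 : Q ⊓ cs x Q = Q := eq_of_le_of_card_ge inf_le_left (by
      rw [hd, hQ32, show k = 5 by omega]; norm_num)
    have e2 : Q = cs x Q := eq_of_le_of_card_ge (inf_eq_left.1 e1) (card_cs x Q).le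
    exact h.false_of_both (hQC.trans hCA) (fun e' => by rw [e', Subgroup.card_bot] at hQ32; norm_num at hQ32)
      h.qnorm (by have := le_normalizer_cs (g := x) h.qnorm; rwa [← e2] at this)
  have hCE : cubC A x ≤ normalizer (E : Set G) := fun g hg => by
    refine cs_eq_self_iff.1 ?_
    rw [hEeq, cs_inf, cs_eq_self_iff.2 (hidx Q hQC hQ32 hg),
      cs_eq_self_iff.2 (hidx (cs x Q) hxQC (by rw [card_cs, hQ32]) hg)]
  have hAE : A ≤ normalizer (E : Set G) := h.normalizer_of_C_s hCE hsE'
  have hEx : cs x⁻¹ E = F := by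
    have hy : cs (x * s)⁻¹ E = F := by rw [hE, cs_y_inv_iv hs]; rfl
    rw [mul_inv_rev, cs_mul] at hy
    rw [← hsF', ← hy, cs_cs_inv]
  have hCF : cubC A x ≤ normalizer (F : Set G) := by
    have := le_normalizer_cs (g := x⁻¹) hCE
    rwa [hEx, show cs x⁻¹ (cubC A x) = cubC A x by conv_lhs => rw [← h.xC, cs_inv_cs]] at this
  have hAF : A ≤ normalizer (F : Set G) := h.normalizer_of_C_s hCF hsF'
  have hBE : cs x A ≤ normalizer (E : Set G) := by
    have := le_normalizer_cs (g := x) hAF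
    rwa [← hEx, cs_cs_inv] at this
  exact h.false_of_both (hEQ.trans (hQC.trans hCA)) (fun e' => he4F (by
    have hm : e 4 ∈ E := mem_iv (by norm_num) (by norm_num)
    rw [e', mem_bot] at hm
    rw [hm]; exact one_mem _)) hAE hBE

omit hw in
/-- Sims: the edge group has order at most 16. -/
theorem n_le_four (hn : 1 ≤ n) : n ≤ 4 ∧ ∃ m, Width e n m ∧ (n ≤ 2 ∧ m = n ∨ 3 ≤ n ∧ m + 1 = n) := by
  obtain ⟨m, hm⟩ := hs.exists_width hn
  have hm1 := hm.1
  rcases h.width_bound hs hC0 hm hn with ⟨e1, e2⟩ | ⟨e1, e2⟩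
  · exact ⟨by omega, m, hm, Or.inl ⟨e2, e1⟩⟩
  · obtain ⟨e3, -⟩ := hs.commutator_interval hm e1
    have h4 := hs.two_mul_width hm e1
    by_cases h6 : n = 6
    · exact (h.not_six hs hC0 hm h6 (by omega)).elim
    exact ⟨by omega, m, hm, Or.inr ⟨by omega, by omega⟩⟩

end Cub

end Cfsg.Agent.Suborbit
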