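import Cfsg.Agent.Lib.Suborbit.Directed
import Cfsg.Agent.Lib.Suborbit.Cubic

/-!
A primitive group with a suborbit of length 3 gives a cubic amalgam.
-/

set_option autoImplicit false

namespace Cfsg.Agent.Suborbit

open Subgroup

variable {G Ω : Type*} [Group G] [Finite G] [MulAction G Ω] [FaithfulSMul G Ω] [Finite Ω]

/-- A suborbit of length 3: the stabiliser has order 3, or carries a cubic amalgam. -/
theorem exists_cub (hprim : MulAction.IsPreprimitive G Ω) (a b : Ω)
    (h3 : Nat.card (MulAction.orbit (MulAction.stabilizer G a) b) = 3) :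
    Nat.card (MulAction.stabilizer G a) = 3 ∨
      ∃ x s : G, Cub (MulAction.stabilizer G a) x s := by
  classical
  have hab := ne_of_two_le h3 (by norm_num)
  haveI : Nontrivial Ω := ⟨⟨a, b, hab⟩⟩
  haveI := hprim.toIsPretransitive
  set A := MulAction.stabilizer G a
  set B := MulAction.stabilizer G b
  obtain ⟨g, hg⟩ := MulAction.exists_smul_eq G a b
  have hconj : B = cs g A := by
    show MulAction.stabilizer G b = _
    rw [← hg, MulAction.stabilizer_smul_eq_stabilizer_map_conj]
    rfl
  set C := A ⊓ B with hC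
  have hmax : IsCoatom A := (MulAction.isCoatom_stabilizer_iff_preprimitive G a).2 hprim
  have hcore : ∀ N : Subgroup G, N ≤ A → normalizer (N : Set G) = ⊤ → N = ⊥ := by
    intro N hN hn
    rw [eq_bot_iff]
    intro t ht
    refine mem_bot.2 (FaithfulSMul.eq_of_smul_eq_smul (α := Ω) fun ω => ?_)
    obtain ⟨u, rfl⟩ := MulAction.exists_smul_eq G a ω
    rw [one_smul]
    have hu : u⁻¹ * t * u ∈ A := hN (by
      have h := (mem_normalizer_iff.1 (hn ▸ mem_top u⁻¹ : u⁻¹ ∈ normalizer (N : Set G)) t).1 ht
      simpa using h)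
    have := MulAction.mem_stabilizer_iff.1 hu
    rw [mul_smul, mul_smul] at this
    simpa using congrArg (u • ·) this
  have hN : ∀ N : Subgroup G, N ≤ A → N ≠ ⊥ → A ≤ normalizer (N : Set G) →
      normalizer (N : Set G) ≤ A := fun N h1 h2 h4 => by
    rcases eq_or_lt_of_le h4 with e | e
    · exact e.ge
    · exact absurd (hcore N h1 (hmax.2 _ e)) h2
  have hBne : ¬ B ≤ A := fun hle => by
    have hBA : B = A := eq_of_le_of_card_ge hle (by rw [hconj, card_cs])
    have h1 : MulAction.orbit A b = {b} := by
      ext z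
      constructor
      · rintro ⟨t, rfl⟩
        exact MulAction.mem_stabilizer_iff.1 (hBA.ge t.2 : (t : G) ∈ B)
      · rintro rfl; exact MulAction.mem_orbit_self _
    rw [h1, Nat.card_coe_set_eq, Set.ncard_singleton] at h3
    omega
  have hr1 : B.relIndex A = 3 := by
    show (B.subgroupOf A).index = 3
    rw [show B.subgroupOf A = MulAction.stabilizer A b from rfl, MulAction.index_stabilizer, ← h3,
      Nat.card_coe_set_eq]
  have hA3 : Nat.card A = 3 * Nat.card C := by
    have := card_mul_index (B.subgroupOf A)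
    rw [show (B.subgroupOf A).index = 3 from hr1, ← card_subtype A (B.subgroupOf A),
      subgroupOf_map_subtype, inf_comm] at this
    rw [← this, mul_comm, hC]
  have hr2 : A.relIndex B = 3 := by
    have := card_mul_index (A.subgroupOf B)
    rw [← card_subtype B (A.subgroupOf B), subgroupOf_map_subtype, ← hC, show Nat.card B = Nat.card A by
      rw [hconj, card_cs], hA3, mul_comm 3] at this
    exact Nat.eq_of_mul_eq_mul_left Nat.card_pos this
  haveI : Fact (Nat.Prime 2) := ⟨Nat.prime_two⟩
  haveI : Fact (Nat.Prime 3) := ⟨Nat.prime_three⟩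
  have hC2 : IsPGroup 2 C := by
    refine S5752.isPGroup_of_opp_eq_bot ?_
    by_contra hne
    have sub : ∀ (M K : Subgroup G), K.relIndex M = 3 → C = K ⊓ M →
        M ≤ normalizer (S5752.opp 2 C : Set G) := by
      intro M K hr heqC
      have hcoreC : coreIn M K ≤ C := heqC ▸ le_inf (coreIn_le M K) (coreIn_le_left M K)
      have heq : S5752.opp 2 C = S5752.opp 2 (coreIn M K) := by
        refine le_antisymm ((closure_le _).2 ?_) ((closure_le _).2 ?_)
        · rintro t ⟨htC, hto⟩
          refine S5752.mem_opp ?_ hto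
          have hd := card_dvd_inf_core M K (zpowers t) (heqC ▸ zpowers_le.2 htC)
          rw [Nat.card_zpowers, hr, show (3 - 1 : ℕ).factorial = 2 from rfl] at hd
          have he : zpowers t ⊓ coreIn M K = zpowers t :=
            eq_of_le_of_card_ge inf_le_left (by
              rw [Nat.card_zpowers]
              exact Nat.le_of_dvd Nat.card_pos (hto.dvd_of_dvd_mul_left hd))
          exact (inf_eq_left.1 he) (mem_zpowers t)
        · rintro t ⟨ht, hto⟩
          exact S5752.mem_opp (hcoreC ht) hto
      rw [heq]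
      exact (le_normalizer_coreIn M K).trans (S5752.normalizer_le_normalizer_opp _)
    have h1 := sub A B hr1 (by rw [hC, inf_comm])
    have h2 := sub B A hr2 hC
    exact hBne (h2.trans (hN _ ((S5752.opp_le C).trans inf_le_left) hne h1))
  -- adjust the conjugating element to normalise the edge group
  obtain ⟨k, hk⟩ := IsPGroup.iff_card.1 hC2
  have hCB : C ≤ B := inf_le_right
  have hgC : cs g C ≤ B := (cs_mono inf_le_left).trans hconj.ge
  have hfact : (Nat.card B).factorization 2 = k := by
    rw [hconj, card_cs, hA3, hk, Nat.factorization_mul (by norm_num) (by positivity),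
      Finsupp.add_apply, Nat.factorization_eq_zero_of_not_dvd (by norm_num : ¬ 2 ∣ 3),
      Nat.Prime.factorization_pow Nat.prime_two, Finsupp.single_eq_same, zero_add]
  let S : Sylow 2 B := Sylow.ofCard (C.subgroupOf B)
    (by rw [Nat.card_congr (subgroupOfEquivOfLe hCB).toEquiv, hfact, hk])
  let T : Sylow 2 B := Sylow.ofCard ((cs g C).subgroupOf B)
    (by rw [Nat.card_congr (subgroupOfEquivOfLe hgC).toEquiv, hfact, card_cs, hk])
  obtain ⟨u, hu⟩ := MulAction.exists_smul_eq B T S
  set x := (u : G) * g with hx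
  have hxA : cs x A = B := by rw [hx, cs_mul, ← hconj, cs_eq_self_of_mem u.2]
  have hxC : cs x C = C := by
    refine eq_of_le_of_card_ge ?_ (by rw [card_cs])
    intro z hz
    rw [hx, cs_mul, mem_cs] at hz
    have hzB : z ∈ B := by
      have := mul_mem (mul_mem u.2 (hgC hz)) (inv_mem u.2)
      simpa [mul_assoc] using this
    have : (⟨z, hzB⟩ : B) ∈ (S : Subgroup B) := by
      rw [← hu]
      refine ⟨⟨_, hgC hz⟩, hz, ?_⟩
      apply Subtype.ext
      show (u : G) * ((u : G)⁻¹ * z * u) * (u : G)⁻¹ = z
      group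
    exact this
  have hcub : cubC A x = C := by rw [cubC, hxA]
  obtain ⟨s0, hs0⟩ := exists_prime_orderOf_dvd_card' (G := A) 3 (hA3 ▸ dvd_mul_right 3 _)
  set s : G := s0.1
  have hso : orderOf s = 3 := by rw [← hs0]; exact orderOf_coe s0
  have hsA : s ∈ A := s0.2
  by_cases hnorm : cs s C = C
  · left
    have hnA : A ≤ normalizer (C : Set G) := by
      have hsC : s ∉ C := fun hs => by
        have h := orderOf_dvd_natCard (⟨s, hs⟩ : C)
        rw [← orderOf_coe, hso, hk] at h
        exact absurd (Nat.prime_three.dvd_of_dvd_pow h) (by norm_num)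
      set M := A ⊓ normalizer (C : Set G)
      have hM : M = A := by
        refine eq_of_le_of_card_ge inf_le_left ?_
        obtain ⟨d, hd⟩ := card_dvd_of_le (le_inf inf_le_left le_normalizer : C ≤ M)
        have hdd : Nat.card C * d ∣ Nat.card C * 3 := by
          rw [← hd, mul_comm _ 3, ← hA3]; exact card_dvd_of_le inf_le_left
        rcases (Nat.dvd_prime Nat.prime_three).1 (Nat.dvd_of_mul_dvd_mul_left Nat.card_pos hdd) with rfl | rfl
        · exfalso
          apply hsC
          rw [eq_of_le_of_card_ge (le_inf inf_le_left le_normalizer : C ≤ M) (by rw [hd, mul_one])]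
          exact ⟨hsA, cs_eq_self_iff.1 hnorm⟩
        · rw [hd, hA3, mul_comm]
      exact hM.ge.trans inf_le_right
    by_cases hCbot : C = ⊥
    · rw [hA3, hCbot, card_bot, mul_one]
    exfalso
    have h1 : cs x A ≤ normalizer (C : Set G) := by
      have := le_normalizer_cs (g := x) hnA
      rwa [hxC] at this
    rw [hxA] at h1
    exact hBne (h1.trans (hN C inf_le_left hCbot hnA))
  right
  refine ⟨x, s, ?_⟩
  have hgap : Nat.card C = 2 * Nat.card (C ⊓ cs s C : Subgroup G) ∧
      A ≤ normalizer ((C ⊓ cs s C : Subgroup G) : Set G) := by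
    have hcsA : cs s C ≤ A := (cs_mono inf_le_left).trans (cs_eq_self_of_mem hsA).le
    have h1 : (cs s C).relIndex C ≤ 3 := by
      refine (relIndex_le_of_le_right (inf_le_left : C ≤ A) fun h0 => index_ne_zero_of_finite h0).trans ?_
      have := card_mul_index ((cs s C).subgroupOf A)
      rw [Nat.card_congr (subgroupOfEquivOfLe hcsA).toEquiv, card_cs, hA3, mul_comm 3] at this
      exact (Nat.eq_of_mul_eq_mul_left Nat.card_pos this).le
    have h2 := card_mul_index ((cs s C).subgroupOf C)
    rw [← card_subtype C ((cs s C).subgroupOf C), subgroupOf_map_subtype] at h2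
    have hi : ((cs s C).subgroupOf C).index ∣ 2 ^ k := hk ▸ index_dvd_card _
    obtain ⟨j, -, hj⟩ := (Nat.dvd_prime_pow Nat.prime_two).1 hi
    rw [relIndex, hj] at h1
    have hj1 : j = 1 := by
      rcases j with _ | _ | j
      · exfalso
        apply hnorm
        rw [hj, pow_zero, mul_one] at h2
        have : cs s C ⊓ C = C := eq_of_le_of_card_ge inf_le_right h2.ge
        exact (eq_of_le_of_card_ge (inf_eq_right.1 this) (by rw [card_cs])).symm
      · rfl
      · have : 2 ^ 2 ≤ 2 ^ (j + 1 + 1) := Nat.pow_le_pow_right two_pos (by omega)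
        omega
    rw [hj, hj1, pow_one, inf_comm] at h2
    have hcard : Nat.card C = 2 * Nat.card (C ⊓ cs s C : Subgroup G) := by rw [← h2, mul_comm]
    refine ⟨hcard, ?_⟩
    have hc1 := card_dvd_core A B
    rw [hr1, show (3 : ℕ).factorial = 6 from rfl, hA3] at hc1
    have hle : coreIn A B ≤ C ⊓ cs s C := by
      have h5 : coreIn A B ≤ C := le_inf (coreIn_le_left A B) (coreIn_le A B)
      refine le_inf h5 ?_
      rw [← cs_eq_self_iff.2 (le_normalizer_coreIn A B hsA)]
      exact cs_mono h5
    have : coreIn A B = C ⊓ cs s C := eq_of_le_of_card_ge hle (by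
      have := Nat.le_of_dvd (Nat.mul_pos (by norm_num) Nat.card_pos) hc1
      omega)
    rw [← this]
    exact le_normalizer_coreIn A B
  exact ⟨hN, fun hxm => hBne (hxA ▸ (cs_eq_self_of_mem hxm).le), by rw [hcub, hxC], hsA,
    by rw [← hso, pow_orderOf_eq_one], by rw [hcub]; exact hA3, hcub ▸ hC2,
    by rw [hcub]; exact hnorm, by rw [hcub]; exact hgap.1, by rw [hcub]; exact hgap.2⟩

end Cfsg.Agent.Suborbit
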