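import Cfsg.Agent.Lib.Suborbit.Cubic
import Cfsg.Agent.Lib.Solvable.Basic

/-!
Sims: the stabilisers of cubic amalgams with conjugate sides are `S₃`, `D₁₂`, `S₄`, `S₄ × Z₂`.
-/

set_option autoImplicit false

namespace Cfsg.Agent.Suborbit

open Subgroup

theorem nonempty_iso_of_injective {X H : Type*} [Group X] [Group H] [Finite H] (f : X →* H)
    (hf : Function.Injective f) (hc : Nat.card X = Nat.card H) : Nonempty (X ≃* H) :=
  ⟨MulEquiv.ofBijective f ((Nat.bijective_iff_injective_and_card f).2 ⟨hf, hc⟩)⟩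

/-- In a group of exponent two every non-identity element has a nontrivial sign. -/
theorem exists_sign {Q : Type*} [Group Q] [Finite Q] (hQ : ∀ a : Q, a * a = 1) {u : Q} (hu : u ≠ 1) :
    ∃ f : Q →* Multiplicative (ZMod 2), f u ≠ 1 := by
  classical
  have hinv : ∀ a : Q, a⁻¹ = a := fun a => inv_eq_of_mul_eq_one_right (hQ a)
  have hcomm : ∀ a b : Q, a * b = b * a := fun a b => by
    conv_lhs => rw [← hinv (a * b), mul_inv_rev, hinv, hinv]
  have : Nonempty {M : Subgroup Q // u ∉ M} := ⟨⟨⊥, by simpa using hu⟩⟩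
  obtain ⟨M, hM⟩ := Finite.exists_max (fun M : {M : Subgroup Q // u ∉ M} => Nat.card M.1)
  have hcos : ∀ a : Q, a ∉ M.1 → a * u ∈ M.1 := by
    intro a ha
    have hn : M.1.Normal := ⟨fun m hm g => by rwa [hcomm g m, mul_inv_cancel_right]⟩
    have hmem : u ∈ M.1 ⊔ zpowers a := by
      by_contra h
      have h3 := eq_of_le_of_card_ge (le_sup_left : M.1 ≤ M.1 ⊔ zpowers a) (hM ⟨_, h⟩)
      exact ha (h3.ge (mem_sup_right (mem_zpowers a)))
    obtain ⟨m, hm, b, hb, hmb⟩ := mem_sup_of_normal_left.1 hmem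
    obtain ⟨i, rfl⟩ := hb
    simp only at hmb
    rcases Int.even_or_odd i with ⟨j, rfl⟩ | ⟨j, rfl⟩
    · rw [← two_mul, zpow_mul, zpow_two, hQ, one_zpow, mul_one] at hmb
      exact absurd (hmb ▸ hm) M.2
    · rw [zpow_add, zpow_mul, zpow_two, hQ, one_zpow, zpow_one, one_mul] at hmb
      rw [show a * u = m by
        conv_lhs => rw [← hmb]
        rw [← mul_assoc, hcomm a m, mul_assoc, hQ, mul_one]]
      exact hm
  refine ⟨MonoidHom.mk' (fun a => if a ∈ M.1 then 1 else Multiplicative.ofAdd 1) (fun a b => ?_), ?_⟩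
  · by_cases ha : a ∈ M.1 <;> by_cases hb : b ∈ M.1
    · simp [ha, hb, mul_mem ha hb]
    · simp [ha, hb, mul_mem_cancel_left ha]
    · simp [ha, hb, mul_mem_cancel_right hb]
    · have h := mul_mem (hcos a ha) (hcos b hb)
      have hab : a * b ∈ M.1 := by
        have e : a * u * (b * u) = a * b := by
          rw [hcomm b u, mul_assoc, ← mul_assoc u u b, hQ, one_mul]
        rwa [e] at h
      simp [ha, hb, hab]
      decide
  · simp only [MonoidHom.mk'_apply, M.2, if_false]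
    decide

variable {G : Type*} [Group G] [Finite G]

/-- A sign on a group generated by involutions commuting modulo a central subgroup. -/
theorem exists_sign_of_gen (C : Subgroup G) (S : Set G) (hS : closure S = C) (N : Subgroup G)
    (hcen : ∀ a ∈ C, ∀ z ∈ N, Commute a z) (hsq : ∀ a ∈ S, a * a = 1)
    (hcom : ∀ a ∈ S, ∀ b ∈ S, a * b * a⁻¹ * b⁻¹ ∈ N) {u : G} (hu : u ∈ C) (huN : u ∉ N) :
    (∀ a ∈ C, ∀ b ∈ C, a * b * a⁻¹ * b⁻¹ ∈ N) ∧
      ∃ f : C →* Multiplicative (ZMod 2), f ⟨u, hu⟩ ≠ 1 := by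
  set M := N.subgroupOf C with hM
  haveI : M.Normal := ⟨fun z hz g => by
    show (g : G) * z * (g : G)⁻¹ ∈ N
    rw [(hcen g g.2 z hz).eq, mul_inv_cancel_right]; exact hz⟩
  set S' : Set (C ⧸ M) := QuotientGroup.mk' M '' (C.subtype ⁻¹' S) with hS'
  have hgen : closure S' = ⊤ := by
    rw [hS', ← MonoidHom.map_closure]
    have : closure (C.subtype ⁻¹' S) = ⊤ := by
      apply map_injective C.subtype_injective
      rw [MonoidHom.map_closure, Set.image_preimage_eq_of_subset, hS, ← MonoidHom.range_eq_map,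
        range_subtype]
      intro a ha
      exact ⟨⟨a, hS ▸ subset_closure ha⟩, rfl⟩
    rw [this, ← MonoidHom.range_eq_map, QuotientGroup.range_mk']
  have h1 : ∀ q ∈ S', q * q = 1 := by
    rintro _ ⟨a, ha, rfl⟩
    rw [← map_mul, show a * a = 1 from Subtype.ext (hsq _ ha), map_one]
  have h2 : ∀ q ∈ S', ∀ r ∈ S', Commute q r := by
    rintro _ ⟨a, ha, rfl⟩ _ ⟨b, hb, rfl⟩
    have h : a * b * a⁻¹ * b⁻¹ ∈ M := hcom _ ha _ hb
    rw [← QuotientGroup.eq_one_iff] at h
    simp only [QuotientGroup.mk_mul, QuotientGroup.mk_inv] at h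
    show (QuotientGroup.mk a : C ⧸ M) * QuotientGroup.mk b = QuotientGroup.mk b * QuotientGroup.mk a
    exact mul_inv_eq_iff_eq_mul.1 (mul_inv_eq_one.1 h)
  have hexp : ∀ q : C ⧸ M, q * q = 1 := fun q => sq_eq_one_of_commuting h1 h2 (hgen ▸ mem_top q)
  refine ⟨fun a ha b hb => ?_, ?_⟩
  · have h : ((⟨a, ha⟩ * ⟨b, hb⟩ * (⟨a, ha⟩ : C)⁻¹ * (⟨b, hb⟩ : C)⁻¹ : C) : C ⧸ M) = 1 := by
      simp only [QuotientGroup.mk_mul, QuotientGroup.mk_inv]
      set p := ((⟨a, ha⟩ : C) : C ⧸ M)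
      set q := ((⟨b, hb⟩ : C) : C ⧸ M)
      rw [inv_eq_of_mul_eq_one_right (hexp p), inv_eq_of_mul_eq_one_right (hexp q)]
      have := hexp (p * q)
      simpa [mul_assoc] using this
    exact (QuotientGroup.eq_one_iff (N := M) _).1 h
  · obtain ⟨f, hf⟩ := exists_sign hexp (u := QuotientGroup.mk' M ⟨u, hu⟩)
      (fun h => huN ((QuotientGroup.eq_one_iff (N := M) _).1 h))
    exact ⟨f.comp (QuotientGroup.mk' M), hf⟩

theorem sign_ne_one_pow {f : Multiplicative (ZMod 2)} (hf : f ≠ 1) : f ^ 3 ≠ 1 := by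
  revert hf; revert f; decide

/-- Transfer of a sign: a central element keeps its sign. -/
theorem exists_transfer {A C : Subgroup G} (hCA : C ≤ A) (hidx : Nat.card A = 3 * Nat.card C)
    (f : C →* Multiplicative (ZMod 2)) {u : G} (hu : u ∈ C) (huA : ∀ a ∈ A, Commute a u)
    (hf : f ⟨u, hu⟩ ≠ 1) : ∃ χ : A →* Multiplicative (ZMod 2), χ ⟨u, hCA hu⟩ ≠ 1 := by
  set H := C.subgroupOf A
  have hi : H.index = 3 := by
    have h := card_mul_index H
    rw [Nat.card_congr (subgroupOfEquivOfLe hCA).toEquiv, hidx, mul_comm 3] at h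
    exact Nat.eq_of_mul_eq_mul_left Nat.card_pos h
  let ψ : H →* Multiplicative (ZMod 2) := f.comp (subgroupOfEquivOfLe hCA).toMonoidHom
  refine ⟨ψ.transfer, ?_⟩
  have key : ∀ (k : ℕ) (g₀ : A), g₀⁻¹ * (⟨u, hCA hu⟩ : A) ^ k * g₀ ∈ H →
      g₀⁻¹ * (⟨u, hCA hu⟩ : A) ^ k * g₀ = (⟨u, hCA hu⟩ : A) ^ k := fun k g₀ _ => by
    have : Commute g₀ (⟨u, hCA hu⟩ : A) := Subtype.ext (huA _ g₀.2)
    rw [mul_assoc, ← (this.pow_right k).eq, inv_mul_cancel_left]
  rw [MonoidHom.transfer_eq_pow ψ _ key]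
  intro h
  apply sign_ne_one_pow hf
  rw [← map_pow]
  refine Eq.trans (congrArg f (Subtype.ext ?_)) h
  simp only [hi]
  rfl

namespace Cub

variable {A : Subgroup G} {x s : G} (h : Cub A x s) {n : ℕ} {e : ℤ → G}
  (hs : Shift e (x * s) n) (hC0 : iv e 0 n = cubC A x) (hn1 : 1 ≤ n)
include h hs hC0 hn1

theorem card_A : Nat.card A = 3 * 2 ^ n := by
  rw [h.cardA, ← hC0, hs.card 0 n le_rfl]

theorem orderOf_s : orderOf s = 3 := by
  have : Fact (Nat.Prime 3) := ⟨Nat.prime_three⟩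
  exact orderOf_eq_prime h.s3 fun e1 => h.notnorm (by rw [e1, cs_one])

theorem not_mem_C : s ∉ cubC A x := fun hm => h.notnorm (cs_eq_self_of_mem hm)

/-- The kernel of the action on the three cosets lies in `Q`. -/
theorem kernel_le_Q {a : A}
    (ha : a ∈ (MulAction.toPermHom A (A ⧸ (cubC A x).subgroupOf A)).ker) :
    (a : G) ∈ iv e 0 (n - 1) := by
  rw [h.q_eq hs hC0 hn1]
  rw [← normalCore_eq_ker] at ha
  refine ⟨(normalCore_le _ ha : a ∈ (cubC A x).subgroupOf A), mem_cs.2 ?_⟩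
  have := normalCore_le _ ((normalCore_normal ((cubC A x).subgroupOf A)).conj_mem a ha ⟨s, h.sA⟩⁻¹)
  simpa [mem_subgroupOf, mul_assoc] using this

theorem card_cosets : Nat.card (A ⧸ (cubC A x).subgroupOf A) = 3 := by
  have h1 := card_mul_index ((cubC A x).subgroupOf A)
  rw [Nat.card_congr (subgroupOfEquivOfLe hCA).toEquiv, h.cardA, mul_comm 3] at h1
  exact Nat.eq_of_mul_eq_mul_left Nat.card_pos h1

/-- The action on the three cosets. -/
theorem exists_perm_three : ∃ φ : A →* Equiv.Perm (Fin 3),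
    ∀ a, φ a = 1 → (a : G) ∈ iv e 0 (n - 1) := by
  obtain ⟨ee⟩ : Nonempty ((A ⧸ (cubC A x).subgroupOf A) ≃ Fin 3) :=
    ⟨(Finite.equivFin _).trans (finCongr (h.card_cosets hs hC0 hn1))⟩
  refine ⟨ee.permCongrHom.toMonoidHom.comp (MulAction.toPermHom A _), fun a ha => ?_⟩
  refine h.kernel_le_Q hs hC0 hn1 (MonoidHom.mem_ker.2 ?_)
  exact (map_eq_one_iff _ ee.permCongrHom.injective).1 ha

theorem structure_one (hn : n = 1) : Nonempty (A ≃* Equiv.Perm (Fin 3)) := by
  obtain ⟨φ, hφ⟩ := h.exists_perm_three hs hC0 hn1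
  refine nonempty_iso_of_injective φ ((injective_iff_map_eq_one φ).2 fun a ha => ?_) ?_
  · have := hφ a ha
    rw [hn, Nat.sub_self, iv_zero, mem_bot] at this
    exact Subtype.ext this
  · rw [h.card_A hs hC0 hn1, hn, Nat.card_perm, Nat.card_fin]; rfl

variable {l : ℕ} (hw : Width e n l)
include hw

omit h hC0 in
theorem central_gens {m : ℤ} {lo hi : ℤ} (hd : ∀ k, lo ≤ k → k < hi → k - m < l ∧ m - k < l) :
    ∀ k, lo ≤ k → k < hi → Commute (e k) (e m) := fun k h1 h2 =>
  hw.2.2.1 _ _ (hd k h1 h2).1 (hd k h1 h2).2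

/-- A generator central in `A`. -/
theorem central_of_window {m : ℤ} (hm : ∀ k : ℤ, -1 ≤ k → k < n → k - m < l ∧ m - k < l) :
    ∀ a ∈ A, Commute a (e m) := fun a ha => by
  have hle : A ≤ centralizer {e m} := h.A_le hs hC0 fun k h1 h2 => by
    rw [mem_centralizer_singleton_iff]
    exact (hw.2.2.1 _ _ (hm k h1 h2).1 (hm k h1 h2).2).eq
  exact mem_centralizer_singleton_iff.1 (hle ha)

theorem structure_two (hn : n = 2) (hl : l = 2) : Nonempty (A ≃* DihedralGroup 6) := by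
  subst hn hl
  have i0 := hs.mul_self hn1
  have hS : closure (e '' Set.Ico (0 : ℤ) (0 + (2 : ℕ))) = cubC A x := hC0
  have he0 : e 0 ∈ cubC A x := hC0 ▸ mem_iv le_rfl (by norm_num)
  have hcent := h.central_of_window hs hC0 hn1 hw (m := 0) fun k h1 h2 => by
    push_cast at h2 ⊢; omega
  obtain ⟨-, f, hf⟩ := exists_sign_of_gen (cubC A x) _ hS ⊥
    (fun a _ z hz => by rw [mem_bot.1 hz]; exact Commute.one_right a)
    (by rintro _ ⟨m, -, rfl⟩; exact i0 m)
    (by
      rintro _ ⟨p, ⟨p1, p2⟩, rfl⟩ _ ⟨q, ⟨q1, q2⟩, rfl⟩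
      rw [mem_bot, (hw.2.2.1 p q (by push_cast at p2 q2 ⊢; omega) (by push_cast at p2 q2 ⊢; omega)).eq]
      group)
    he0 (by rw [mem_bot]; exact hs.ne_one hn1 0)
  obtain ⟨χ, hχ⟩ := exists_transfer hCA h.cardA f he0 hcent hf
  obtain ⟨φ, hφ⟩ := h.exists_perm_three hs hC0 hn1
  obtain ⟨E⟩ := nonempty_iso_of_injective (φ.prod χ) ((injective_iff_map_eq_one _).2 fun a ha => by
      rw [MonoidHom.prod_apply, Prod.mk_eq_one] at ha
      have := hφ a ha.1
      norm_num [iv_one] at this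
      obtain ⟨i, hi⟩ := this
      simp only at hi
      rcases Int.even_or_odd i with ⟨j, rfl⟩ | ⟨j, rfl⟩
      · rw [← two_mul, zpow_mul, zpow_two, i0, one_zpow] at hi
        exact Subtype.ext hi.symm
      · rw [zpow_add, zpow_mul, zpow_two, i0, one_zpow, zpow_one, one_mul] at hi
        exact absurd (by rw [show (⟨e 0, hCA he0⟩ : A) = a from Subtype.ext hi]; exact ha.2) hχ)
    (by
      rw [h.card_A hs hC0 hn1, Nat.card_prod, Nat.card_perm, Nat.card_fin,
        Nat.card_eq_fintype_card (α := Multiplicative (ZMod 2))]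
      rfl)
  obtain ⟨D, hD⟩ : ∃ f : DihedralGroup 6 → Equiv.Perm (Fin 3) × Multiplicative (ZMod 2),
      (∀ p q, f (p * q) = f p * f q) ∧ Function.Injective f :=
    ⟨fun d => match d with
      | DihedralGroup.r i => ((finRotate 3) ^ (i.val), Multiplicative.ofAdd (i.val : ZMod 2))
      | DihedralGroup.sr i =>
          (Equiv.swap 0 1 * (finRotate 3) ^ (i.val), Multiplicative.ofAdd (i.val : ZMod 2)),
      by decide +kernel, by unfold Function.Injective; decide +kernel⟩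
  obtain ⟨E'⟩ := nonempty_iso_of_injective (MonoidHom.mk' D hD.1) hD.2 (by
    rw [Nat.card_prod, Nat.card_perm, Nat.card_fin, DihedralGroup.nat_card,
      Nat.card_eq_fintype_card (α := Multiplicative (ZMod 2))]
    rfl)
  exact ⟨E.trans E'.symm⟩

variable (hn3 : 3 ≤ n) (hn4 : n ≤ 4) (hln : l + 1 = n)
include hn3 hn4 hln

/-- Elements of `Q` central in `A`. -/
theorem central_Q {w : G} (hw' : w ∈ iv e 0 (n - 1)) (hc : ∀ a ∈ A, Commute a w) :
    w = 1 ∨ (n = 4 ∧ w = e 1) := by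
  rcases eq_or_ne w 1 with h0 | h0
  · exact Or.inl h0
  right
  obtain ⟨a, L, h1, h2, h3, h4, h5⟩ := hs.exists_minimal hw' h0
  rw [Nat.cast_sub hn1, Nat.cast_one] at h2
  have mem : ∀ k : ℤ, -1 ≤ k → k < n → Commute w (e k) := fun k k1 k2 => by
    have hk : e k ∈ A := by
      rw [← h.gen_y', ← hC0, cs_y_inv_iv hs]
      by_cases h' : 0 ≤ k
      · exact mem_sup_left (mem_iv h' (by omega))
      · exact mem_sup_right (mem_iv (by omega) (by omega))
    exact (hc _ hk).symm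
  have c1 : (n : ℤ) - 1 < a + l := by
    by_contra hh
    exact hs.bot_not_commute hw (by omega) (by omega) h3 h5 (Or.inr rfl)
      (fun m ha hb => ⟨by omega, by omega⟩) (mem (a + l) (by omega) (by omega))
  have c2 : a + L < (l : ℤ) - 1 := by
    by_contra hh
    exact hs.top_not_commute hw (by omega) (by omega) h3 h4 (k := a + L - l) (Or.inl (by ring))
      (fun m ha hb => ⟨by omega, by omega⟩) (mem _ (by omega) (by omega))
  obtain rfl : n = 4 := by omega
  obtain ⟨rfl, rfl⟩ : a = 1 ∧ L = 0 := by omega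
  rw [zero_add, iv_one] at h3
  obtain ⟨i, hi⟩ := h3
  simp only at hi
  rcases Int.even_or_odd i with ⟨j, rfl⟩ | ⟨j, rfl⟩
  · rw [← two_mul, zpow_mul, zpow_two, hs.mul_self hn1, one_zpow] at hi
    exact absurd hi.symm h0
  · rw [zpow_add, zpow_mul, zpow_two, hs.mul_self hn1, one_zpow, zpow_one, one_mul] at hi
    exact ⟨rfl, hi.symm⟩

/-- An element of `A` normalising `⟨s⟩` and lying in `Q` commutes with `s`. -/
theorem commute_s {w : G} (hw' : w ∈ iv e 0 (n - 1)) (hP : w ∈ normalizer (zpowers s : Set G)) :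
    Commute w s := by
  rw [h.q_eq hs hC0 hn1] at hw'
  set Q := cubC A x ⊓ cs s (cubC A x)
  have h1 : w * s * w⁻¹ * s⁻¹ ∈ zpowers s :=
    mul_mem ((mem_normalizer_iff.1 hP s).1 (mem_zpowers s)) (inv_mem (mem_zpowers s))
  have h2 : w * s * w⁻¹ * s⁻¹ ∈ Q := by
    have h' := (mem_normalizer_iff.1 (h.qnorm h.sA) w⁻¹).1 (inv_mem hw')
    simpa [mul_assoc] using mul_mem hw' h'
  have hd1 := orderOf_dvd_natCard (⟨_, h1⟩ : zpowers s)
  have hcard : Nat.card (cubC A x) = 2 ^ n := by rw [← hC0, hs.card 0 n le_rfl]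
  have hd2 := orderOf_dvd_natCard (⟨_, h2.1⟩ : cubC A x)
  rw [← orderOf_coe, Nat.card_zpowers, h.orderOf_s hs hC0 hn1] at hd1
  rw [← orderOf_coe, hcard] at hd2
  have h31 := Nat.eq_one_of_dvd_coprimes
    (Nat.Coprime.pow_right n (by norm_num : Nat.Coprime 3 2)) hd1 hd2
  exact mul_inv_eq_iff_eq_mul.1 (mul_inv_eq_one.1 (orderOf_eq_one_iff.1 h31))

theorem not_normal_s : ¬ A ≤ normalizer (zpowers s : Set G) := by
  intro hnorm
  have hcs : Commute (e ((n : ℤ) - 2)) s := by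
    refine h.commute_s hs hC0 hn1 hw hn3 hn4 hln (mem_iv (by omega) (by omega)) (hnorm (hCA (x := x) ?_))
    rw [← hC0]; exact mem_iv (by omega) (by omega)
  have hC : ∀ k : ℤ, 0 ≤ k → k < n → Commute (e k) (e ((n : ℤ) - 2)) := fun k k1 k2 =>
    hw.2.2.1 _ _ (by omega) (by omega)
  have hm1 : e (-1) ∈ cs s⁻¹ (cubC A x) := by
    have e1 : cs (x * s)⁻¹ (cubC A x) = cs s⁻¹ (cubC A x) := by
      rw [mul_inv_rev, cs_mul]
      congr 1
      conv_lhs => rw [← h.xC, cs_inv_cs]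
    rw [← e1, ← hC0, cs_y_inv_iv hs]
    exact mem_iv (by omega) (by omega)
  rw [mem_cs, inv_inv, ← hC0] at hm1
  have hc1 : Commute (e ((n : ℤ) - 2)) (s * e (-1) * s⁻¹) :=
    commute_iv hm1 fun k k1 k2 => (hC k k1 (by omega)).symm
  have hc2 : Commute (e ((n : ℤ) - 2)) (e (-1)) := by
    have := (hcs.inv_right.mul_right hc1).mul_right hcs
    simpa [mul_assoc] using this
  refine hw.2.2.2.resolve_left (by omega) (-1) ?_
  rw [show (-1 : ℤ) + l = (n : ℤ) - 2 by omega]
  exact hc2.symm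

theorem exists_perm_four : ∃ φ : A →* Equiv.Perm (Fin 4),
    ∀ M : Subgroup A, M.Normal → M ≤ φ.ker → (∀ b ∈ M, n = 4 → (b : G) ≠ e 1) → M = ⊥ := by
  classical
  haveI : Fact (Nat.Prime 3) := ⟨Nat.prime_three⟩
  haveI : Fact (Nat.Prime 2) := ⟨Nat.prime_two⟩
  have hA := h.card_A hs hC0 hn1
  have hfac : (Nat.card A).factorization 3 = 1 := by
    rw [hA, Nat.factorization_mul (by norm_num) (by positivity), Finsupp.add_apply,
      Nat.Prime.factorization_self Nat.prime_three,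
      Nat.factorization_eq_zero_of_not_dvd (fun hd => absurd (Nat.prime_three.dvd_of_dvd_pow hd) (by norm_num))]
  set s' : A := ⟨s, h.sA⟩
  have hso : orderOf s' = 3 := by rw [← orderOf_coe]; exact h.orderOf_s hs hC0 hn1
  let P : Sylow 3 A := Sylow.ofCard (zpowers s') (by rw [Nat.card_zpowers, hso, hfac, pow_one])
  have hPG : ∀ {a : A}, a ∈ normalizer ((P : Subgroup A) : Set A) →
      (a : G) ∈ normalizer (zpowers s : Set G) := by
    intro a ha
    refine cs_eq_self_iff.1 (cs_eq_of_le ?_)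
    rw [cs, MonoidHom.map_zpowers, zpowers_le]
    have := (mem_normalizer_iff.1 ha s').1 (mem_zpowers s')
    obtain ⟨i, hi⟩ := this
    exact ⟨i, by simpa using congrArg Subtype.val hi⟩
  have hnotone : Nat.card (Sylow 3 A) ≠ 1 := fun h1 => by
    have := (Nat.card_eq_one_iff_unique.1 h1).1
    refine h.not_normal_s hs hC0 hn1 hw hn3 hn4 hln fun a ha => ?_
    exact hPG (a := ⟨a, ha⟩) (by
      have : (P : Subgroup A).Normal := by
        haveI := P.characteristic_of_subsingleton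
        infer_instance
      rw [normalizer_eq_top_iff.2 this]; trivial)
  have hdvd : Nat.card (Sylow 3 A) ∣ 2 ^ n := by
    have h1 := P.card_dvd_index
    have h2 := (P : Subgroup A).card_mul_index
    rw [show Nat.card (P : Subgroup A) = 3 by rw [P.card_eq_multiplicity, hfac, pow_one], hA] at h2
    rwa [Nat.eq_of_mul_eq_mul_left (by norm_num) h2] at h1
  have hfour : Nat.card (Sylow 3 A) = 4 := by
    obtain ⟨k, hk, hd⟩ := (Nat.dvd_prime_pow Nat.prime_two).1 hdvd
    have hmod : Nat.card (Sylow 3 A) % 3 = 1 := card_sylow_modEq_one 3 A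
    rw [hd] at hmod hnotone ⊢
    have hk4 : k ≤ 4 := by omega
    interval_cases k <;> first | omega | norm_num at hmod hnotone ⊢
    -- 16 Sylow subgroups are excluded by the central involution
    exfalso
    obtain rfl : n = 4 := by omega
    have he1 : e 1 ∈ A := hCA (hC0 ▸ mem_iv (by norm_num) (by norm_num))
    have hN : Nat.card (normalizer ((P : Subgroup A) : Set A)) * 16 = 48 := by
      have h1 := card_mul_index (normalizer ((P : Subgroup A) : Set A))
      rw [show (normalizer ((P : Subgroup A) : Set A)).index = Nat.card (Sylow 3 A) from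
        P.card_eq_index_normalizer.symm, hd, hA] at h1
      norm_num at h1 ⊢
      omega
    have he1N : (⟨e 1, he1⟩ : A) ∈ normalizer ((P : Subgroup A) : Set A) := by
      have hc := h.central_of_window hs hC0 hn1 hw (m := 1) fun k k1 k2 => by
        push_cast at k2; omega
      refine mem_normalizer_iff.2 fun b => ?_
      rw [show (⟨e 1, he1⟩ : A) * b * ⟨e 1, he1⟩⁻¹ = b from Subtype.ext (by
        show e 1 * (b : G) * (e 1)⁻¹ = b
        rw [← (hc b b.2).eq, mul_inv_cancel_right])]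
    have ho : orderOf (⟨e 1, he1⟩ : A) = 2 := by
      rw [← orderOf_coe]
      exact orderOf_eq_prime (by rw [sq]; exact hs.mul_self hn1 1) (hs.ne_one hn1 1)
    have := orderOf_dvd_natCard (⟨_, he1N⟩ : normalizer ((P : Subgroup A) : Set A))
    rw [← orderOf_coe, ho] at this
    omega
  let ee : Sylow 3 A ≃ Fin 4 := (Finite.equivFin _).trans (finCongr hfour)
  set ψ := MulAction.toPermHom A (Sylow 3 A)
  refine ⟨ee.permCongrHom.toMonoidHom.comp ψ, fun M hMn hMle hMe => ?_⟩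
  have hKker : ∀ b ∈ (ee.permCongrHom.toMonoidHom.comp ψ).ker, b ∈ ψ.ker := fun b hb =>
    MonoidHom.mem_ker.2 ((map_eq_one_iff _ ee.permCongrHom.injective).1 (MonoidHom.mem_ker.1 hb))
  set K := ψ.ker
  have hKn : ∀ b ∈ K, ∀ R : Sylow 3 A, b ∈ normalizer ((R : Subgroup A) : Set A) := fun b hb R => by
    have : b • R = R := Equiv.congr_fun (MonoidHom.mem_ker.1 hb) R
    exact Sylow.smul_eq_iff_mem_normalizer.1 this
  have hK3 : ¬ 3 ∣ Nat.card K := by
    intro h3
    obtain ⟨t, ht⟩ := exists_prime_orderOf_dvd_card' 3 h3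
    have htp : IsPGroup 3 (zpowers (t : A)) := IsPGroup.of_card (n := 1) (by
      rw [Nat.card_zpowers, orderOf_coe, ht, pow_one])
    have hall : ∀ R : Sylow 3 A, zpowers (t : A) = (R : Subgroup A) := by
      intro R
      have h1 : zpowers (t : A) ⊓ normalizer ((R : Subgroup A) : Set A) = zpowers (t : A) ⊓ (R : Subgroup A) :=
        IsPGroup.inf_normalizer_sylow htp R
      rw [inf_eq_left.2 (zpowers_le.2 (hKn _ t.2 R))] at h1
      refine eq_of_le_of_card_ge (inf_eq_left.1 h1.symm) ?_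
      rw [R.card_eq_multiplicity, hfac, pow_one, Nat.card_zpowers, orderOf_coe, ht]
    have : Subsingleton (Sylow 3 A) := ⟨fun R R' => Sylow.ext ((hall R).symm.trans (hall R'))⟩
    exact hnotone (Nat.card_eq_one_iff_unique.2 ⟨this, inferInstance⟩)
  have hK2 : IsPGroup 2 K := by
    have hd : Nat.card K ∣ 2 ^ n := by
      have h1 : Nat.card K ∣ 2 ^ n * 3 := by rw [mul_comm, ← hA]; exact card_subgroup_dvd_card K
      exact (Nat.Coprime.dvd_of_dvd_mul_right ((Nat.prime_three.coprime_iff_not_dvd.2 hK3).symm) h1)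
    obtain ⟨j, -, hj⟩ := (Nat.dvd_prime_pow Nat.prime_two).1 hd
    exact IsPGroup.of_card hj
  set C' := (cubC A x).subgroupOf A
  have hC'c : Nat.card C' = 2 ^ n := by
    rw [Nat.card_congr (subgroupOfEquivOfLe hCA).toEquiv, ← hC0, hs.card 0 n le_rfl]
  have hKC : K ≤ C' := by
    have hsup : IsPGroup 2 (K ⊔ C' : Subgroup A) :=
      IsPGroup.to_sup_of_normal_left hK2 (IsPGroup.of_card hC'c)
    obtain ⟨j, hj⟩ := IsPGroup.iff_card.1 hsup
    have hd : 2 ^ j ∣ 2 ^ n := by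
      have h1 : 2 ^ j ∣ 2 ^ n * 3 := by rw [mul_comm, ← hA, ← hj]; exact card_subgroup_dvd_card _
      exact (Nat.Coprime.pow_left j (by norm_num : Nat.Coprime 2 3)).dvd_of_dvd_mul_right h1
    exact le_sup_left.trans (eq_of_le_of_card_ge (le_sup_right : C' ≤ K ⊔ C')
      (by rw [hj, hC'c]; exact Nat.le_of_dvd (Nat.two_pow_pos n) hd)).ge
  have hKQ : ∀ b ∈ K, (b : G) ∈ iv e 0 (n - 1) := fun b hb => by
    rw [h.q_eq hs hC0 hn1]
    refine ⟨hKC hb, mem_cs.2 ?_⟩
    have := hKC ((inferInstance : K.Normal).conj_mem b hb s'⁻¹)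
    simpa [C', s', mem_subgroupOf, mul_assoc] using this
  have hKcomm : ∀ b ∈ K, Commute (b : G) s := fun b hb =>
    h.commute_s hs hC0 hn1 hw hn3 hn4 hln (hKQ b hb) (hPG (hKn b hb P))
  -- the kernel is central
  have hfix : ∀ b ∈ K, (∀ c ∈ cubC A x, Commute c (b : G)) →
      (b : G) = 1 ∨ (n = 4 ∧ (b : G) = e 1) := fun b hb hcen => by
    refine h.central_Q hs hC0 hn1 hw hn3 hn4 hln (hKQ b hb) ?_
    have hle : A ≤ centralizer {(b : G)} := by
      refine h.gen.ge.trans (sup_le (fun c hc => mem_centralizer_singleton_iff.2 (hcen c hc).eq) fun c hc => ?_)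
      rw [mem_centralizer_singleton_iff]
      have := ((hKcomm b hb).mul_right (hcen _ (mem_cs.1 hc)).symm).mul_right (hKcomm b hb).inv_right
      simp only [mul_assoc, mul_inv_cancel_left, mul_inv_cancel, mul_one] at this
      exact this.symm
    exact fun c hc => mem_centralizer_singleton_iff.1 (hle hc)
  have hone : ∀ M : Subgroup A, M.Normal → M ≤ K → (∀ b ∈ M, n = 4 → (b : G) ≠ e 1) → M = ⊥ := by
    intro M hMn hMK hne
    by_contra hM
    haveI := hMn
    haveI : Group.IsNilpotent C' := (IsPGroup.of_card hC'c).isNilpotent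
    have hM' : M.subgroupOf C' ≠ ⊥ := fun h' =>
      hM (by rwa [subgroupOf_eq_bot, disjoint_iff, inf_eq_left.2 (hMK.trans hKC)] at h')
    obtain ⟨b, hb, hb1⟩ := (bot_or_exists_ne_one _).resolve_left (Solvable.inf_center_ne_bot hM')
    have hcen : ∀ c ∈ cubC A x, Commute c ((b : A) : G) := fun c hc => by
      have := mem_center_iff.1 hb.2 ⟨⟨c, hCA hc⟩, hc⟩
      exact congrArg (fun z : C' => ((z : A) : G)) this
    rcases hfix (b : A) (hMK hb.1) hcen with hb' | ⟨h4, hb'⟩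
    · exact hb1 (Subtype.ext (Subtype.ext hb'))
    · exact hne (b : A) hb.1 h4 hb'
  exact hone M hMn (fun b hb => hKker b (hMle hb)) hMe

theorem structure_three (hn : n = 3) : Nonempty (A ≃* Equiv.Perm (Fin 4)) := by
  obtain ⟨φ, hφ⟩ := h.exists_perm_four hs hC0 hn1 hw hn3 hn4 hln
  refine nonempty_iso_of_injective φ
    (φ.ker_eq_bot_iff.1 (hφ φ.ker inferInstance le_rfl fun b _ h4 => by omega)) ?_
  rw [h.card_A hs hC0 hn1, hn, Nat.card_perm, Nat.card_fin]
  rfl

theorem structure_four (hn : n = 4) :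
    Nonempty (A ≃* Equiv.Perm (Fin 4) × Multiplicative (ZMod 2)) := by
  subst hn
  obtain rfl : l = 3 := by omega
  have i0 := hs.mul_self hn1
  have mC : ∀ k : ℤ, 0 ≤ k → k < 4 → e k ∈ cubC A x := fun k k1 k2 =>
    hC0 ▸ mem_iv k1 (by push_cast; omega)
  have he1A : e 1 ∈ A := hCA (mC 1 (by norm_num) (by norm_num))
  have hcent := h.central_of_window hs hC0 hn1 hw (m := 1) fun k k1 k2 => by
    push_cast at k2 ⊢; omega
  set c := e 0 * e 3 * (e 0)⁻¹ * (e 3)⁻¹ with hc
  have hcm : c ∈ iv e 1 2 := by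
    have h' := (hs.commutator_interval hw (by norm_num)).2
    simpa using h'
  have hcC : c ∈ cubC A x := by
    rw [← hC0]; exact iv_le (by norm_num) (by norm_num) hcm
  have hccomm : ∀ g ∈ cubC A x, Commute g c := fun g hg => by
    rw [← hC0] at hg
    exact (commute_iv hg fun k k1 k2 =>
      (commute_iv hcm fun m m1 m2 => hw.2.2.1 k m (by push_cast at *; omega) (by push_cast at *; omega)).symm).symm
  have hzc : ∀ z ∈ zpowers c, ∀ g ∈ cubC A x, Commute g z := by
    rintro z ⟨i, rfl⟩ g hg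
    exact (hccomm g hg).zpow_right i
  have hcomS : ∀ p ∈ e '' Set.Ico (0 : ℤ) (0 + (4 : ℕ)), ∀ q ∈ e '' Set.Ico (0 : ℤ) (0 + (4 : ℕ)),
      p * q * p⁻¹ * q⁻¹ ∈ zpowers c := by
    rintro _ ⟨p, ⟨p1, p2⟩, rfl⟩ _ ⟨q, ⟨q1, q2⟩, rfl⟩
    push_cast at p2 q2
    by_cases hfar : p - q < 3 ∧ q - p < 3
    · rw [(hw.2.2.1 p q (by push_cast; omega) (by push_cast; omega)).eq]
      simp
    · rcases (show (p = 0 ∧ q = 3) ∨ (p = 3 ∧ q = 0) by omega) with ⟨rfl, rfl⟩ | ⟨rfl, rfl⟩
      · exact mem_zpowers c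
      · rw [show e 3 * e 0 * (e 3)⁻¹ * (e 0)⁻¹ = c⁻¹ by rw [hc]; group]
        exact inv_mem (mem_zpowers c)
  have hnot : e 1 ∉ zpowers c := by
    rintro ⟨i, hi⟩
    simp only at hi
    have hcc : c * c = 1 := iv_sq_eq_one hs hn1 hw (by norm_num) hcm
    have hc1 : c = e 1 := by
      rcases Int.even_or_odd i with ⟨j, rfl⟩ | ⟨j, rfl⟩
      · rw [← two_mul, zpow_mul, zpow_two, hcc, one_zpow] at hi
        exact absurd hi.symm (hs.ne_one hn1 1)
      · rwa [zpow_add, zpow_mul, zpow_two, hcc, one_zpow, zpow_one, one_mul] at hi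
    obtain ⟨hcl, -⟩ := exists_sign_of_gen (cubC A x) _ hC0 (zpowers c)
      (fun a ha z hz => hzc z hz a ha) (by rintro _ ⟨m, -, rfl⟩; exact i0 m) hcomS
      (mC 2 (by norm_num) (by norm_num))
      (fun h2 => by
        obtain ⟨j, hj⟩ := h2
        simp only [hc1] at hj
        have h12 : e 2 ∈ iv e 1 1 := by rw [iv_one]; exact ⟨j, hj⟩
        have hle : iv e 1 2 ≤ iv e 1 1 := (closure_le _).2 (by
          rintro _ ⟨m, ⟨m1, m2⟩, rfl⟩
          push_cast at m2
          rcases (show m = 1 ∨ m = 2 by omega) with rfl | rfl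
          · exact mem_iv le_rfl (by norm_num)
          · exact h12)
        have := card_le_of_le hle
        rw [hs.card 1 2 (by norm_num), hs.card 1 1 (by norm_num)] at this
        norm_num at this)
    have hmem : ∀ g ∈ cubC A x, x * g * x⁻¹ ∈ cubC A x := fun g hg => by
      rw [← h.xC]; exact ⟨g, hg, rfl⟩
    have hxc : cs x (zpowers c) = zpowers c := cs_eq_of_le (by
      rw [cs, MonoidHom.map_zpowers, zpowers_le]
      have h' := hcl _ (hmem _ (mC 0 le_rfl (by norm_num))) _ (hmem _ (mC 3 (by norm_num) (by norm_num)))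
      show x * c * x⁻¹ ∈ zpowers c
      convert h' using 1
      rw [hc]; group)
    have hAn : A ≤ normalizer (zpowers c : Set G) := fun a ha => by
      refine cs_eq_self_iff.1 ?_
      rw [cs, MonoidHom.map_zpowers, hc1]
      congr 1
      show a * e 1 * a⁻¹ = e 1
      rw [(hcent a ha).eq, mul_inv_cancel_right]
    refine h.xmem (h.max _ ?_ ?_ hAn (cs_eq_self_iff.1 hxc))
    · rw [zpowers_le, hc1]; exact he1A
    · rw [zpowers_ne_bot, hc1]; exact hs.ne_one hn1 1
  obtain ⟨-, f, hf⟩ := exists_sign_of_gen (cubC A x) _ hC0 (zpowers c)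
      (fun a ha z hz => hzc z hz a ha) (by rintro _ ⟨m, -, rfl⟩; exact i0 m) hcomS
      (mC 1 (by norm_num) (by norm_num)) hnot
  obtain ⟨χ, hχ⟩ := exists_transfer hCA h.cardA f (mC 1 (by norm_num) (by norm_num)) hcent hf
  obtain ⟨φ, hφ⟩ := h.exists_perm_four hs hC0 hn1 hw hn3 hn4 hln
  refine nonempty_iso_of_injective (φ.prod χ) ((φ.prod χ).ker_eq_bot_iff.1 ?_) ?_
  · refine hφ _ inferInstance (fun b hb => ?_) fun b hb _ he => ?_
    · exact (Prod.mk_eq_one.1 (MonoidHom.mem_ker.1 hb)).1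
    · refine hχ ?_
      rw [show (⟨e 1, _⟩ : A) = b from Subtype.ext he.symm]
      exact (Prod.mk_eq_one.1 (MonoidHom.mem_ker.1 hb)).2
  · rw [h.card_A hs hC0 hn1, Nat.card_prod, Nat.card_perm, Nat.card_fin,
      Nat.card_eq_fintype_card (α := Multiplicative (ZMod 2))]
    rfl

end Cub

end Cfsg.Agent.Suborbit
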