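import Cfsg.Agent.S5752
import Mathlib.GroupTheory.GroupAction.Primitive

/-!
Index bounds for the first and second cores of two maximal subgroups (directed suborbits).
-/

set_option autoImplicit false

namespace Cfsg.Agent.Suborbit

open Subgroup

variable {G : Type*} [Group G]

/-- The largest subgroup of `K ⊓ M` normal in `M`. -/
def coreIn (M K : Subgroup G) : Subgroup G := (K.subgroupOf M).normalCore.map M.subtype

theorem coreIn_le_left (M K : Subgroup G) : coreIn M K ≤ M := map_subtype_le _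

theorem coreIn_le (M K : Subgroup G) : coreIn M K ≤ K := by
  rintro _ ⟨x, hx, rfl⟩
  exact (normalCore_le (K.subgroupOf M) hx : x ∈ K.subgroupOf M)

theorem card_coreIn (M K : Subgroup G) : Nat.card (coreIn M K) = Nat.card (K.subgroupOf M).normalCore :=
  card_subtype _ _

theorem le_normalizer_coreIn (M K : Subgroup G) : M ≤ normalizer (coreIn M K : Set G) := by
  rw [le_normalizer_iff]
  rintro g hg _ ⟨x, hx, rfl⟩
  exact ⟨⟨g, hg⟩ * x * ⟨g, hg⟩⁻¹, (normalCore_normal _).conj_mem x hx _, rfl⟩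

variable [Finite G]

/-- The kernel of the action on the cosets has index dividing `d!`. -/
theorem card_dvd_core (M K : Subgroup G) :
    Nat.card M ∣ (K.relIndex M).factorial * Nat.card (coreIn M K) := by
  classical
  set C := K.subgroupOf M
  have h1 : C.normalCore.index ∣ (K.relIndex M).factorial := by
    rw [normalCore_eq_ker, index_ker]
    refine (card_subgroup_dvd_card _).trans ?_
    rw [Nat.card_perm]
    rfl
  rw [card_coreIn]
  have := C.normalCore.card_mul_index
  rw [← this, mul_comm]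
  exact Nat.mul_dvd_mul_right h1 _

/-- A subgroup of `K ⊓ M` has its core-intersection of index dividing `(d-1)!`. -/
theorem card_dvd_inf_core (M K A : Subgroup G) (hA : A ≤ K ⊓ M) :
    Nat.card A ∣ (K.relIndex M - 1).factorial * Nat.card (A ⊓ coreIn M K : Subgroup G) := by
  classical
  set C := K.subgroupOf M
  set f := MulAction.toPermHom M (M ⧸ C)
  set a := A.subgroupOf M with ha
  have hfix : a.map f ≤ MulAction.stabilizer (Equiv.Perm (M ⧸ C)) ((1 : M) : M ⧸ C) := by
    rintro _ ⟨x, hx, rfl⟩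
    rw [MulAction.mem_stabilizer_iff]
    show (x • ((1 : M) : M ⧸ C)) = _
    rw [MulAction.Quotient.smul_mk, QuotientGroup.eq, smul_eq_mul, mul_one, mul_one]
    exact inv_mem (show x ∈ C from (hA hx).1)
  have hstab : Nat.card (MulAction.stabilizer (Equiv.Perm (M ⧸ C)) ((1 : M) : M ⧸ C)) =
      (K.relIndex M - 1).factorial := by
    have h := card_mul_index (MulAction.stabilizer (Equiv.Perm (M ⧸ C)) ((1 : M) : M ⧸ C))
    rw [MulAction.index_stabilizer_of_transitive, Nat.card_perm,
      show Nat.card (M ⧸ C) = K.relIndex M from rfl] at h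
    have hd : 0 < K.relIndex M := Nat.pos_of_ne_zero C.index_ne_zero_of_finite
    obtain ⟨e, he⟩ := Nat.exists_eq_add_of_le hd
    rw [he, show (1 + e).factorial = e.factorial * (1 + e) by
      rw [add_comm, Nat.factorial_succ]; ring] at h
    rw [he, Nat.add_sub_cancel_left]
    exact Nat.eq_of_mul_eq_mul_right (by omega) h
  have h1 : Nat.card (a.map f) ∣ (K.relIndex M - 1).factorial := hstab ▸ card_dvd_of_le hfix
  have hker : (f.ker ⊓ a).map M.subtype = A ⊓ coreIn M K := by
    ext g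
    constructor
    · rintro ⟨x, ⟨hx1, hx2⟩, rfl⟩
      exact ⟨hx2, x, by rw [normalCore_eq_ker]; exact hx1, rfl⟩
    · rintro ⟨hg, x, hx, rfl⟩
      exact ⟨x, ⟨by rw [normalCore_eq_ker] at hx; exact hx, hg⟩, rfl⟩
  have hca : Nat.card a = Nat.card A :=
    Nat.card_congr (subgroupOfEquivOfLe (hA.trans inf_le_right)).toEquiv
  have h2 : Nat.card a = Nat.card (a.map f) * Nat.card (f.ker ⊓ a : Subgroup M) := by
    have h3 := card_mul_index (f.comp a.subtype).ker
    rw [index_ker, MonoidHom.range_eq_map, show (⊤ : Subgroup a).map (f.comp a.subtype) = a.map f by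
      rw [← map_map, ← MonoidHom.range_eq_map, range_subtype]] at h3
    rw [← h3, mul_comm]
    congr 1
    rw [inf_comm, ← card_subtype _ (f.comp a.subtype).ker]
    congr 2
    ext x
    constructor
    · rintro ⟨y, hy, rfl⟩; exact ⟨y.2, hy⟩
    · rintro ⟨hx, hx'⟩; exact ⟨⟨x, hx⟩, hx', rfl⟩
  rw [← hca, h2, ← hker, card_subtype]
  exact Nat.mul_dvd_mul_right h1 _

/-- Intersections of normal subgroups. -/
theorem index_iInf_dvd {A ι : Type*} [Group A] (s : Finset ι) (N : ι → Subgroup A)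
    (hN : ∀ i, (N i).Normal) {m : ℕ} (hm : ∀ i, (N i).index ∣ m) :
    (s.inf N).index ∣ m ^ s.card := by
  classical
  induction s using Finset.induction_on with
  | empty => simp
  | insert i s his ih =>
    haveI := hN i
    rw [Finset.inf_insert, Finset.card_insert_of_notMem his, pow_succ',
      ← relIndex_mul_index (inf_le_right : N i ⊓ s.inf N ≤ _), inf_relIndex_right]
    exact Nat.mul_dvd_mul ((relIndex_dvd_index_of_normal _ _).trans (hm i)) ih

/-- The bound for the second core. -/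
theorem card_first_dvd (M₁ M₂ : Subgroup G) {d : ℕ} (h₁ : M₂.relIndex M₁ = d)
    (h₂ : M₁.relIndex M₂ = d) :
    Nat.card (coreIn M₁ M₂) ∣
      (d - 1).factorial ^ d * Nat.card (coreIn M₁ (coreIn M₁ M₂ ⊓ coreIn M₂ M₁)) := by
  classical
  set A₁ := coreIn M₁ M₂ with hA₁
  set B₁ := coreIn M₂ M₁ with hB₁
  set a := (M₂.subgroupOf M₁).normalCore with ha
  set L := (A₁ ⊓ B₁).subgroupOf M₁ with hL
  set C := M₂.subgroupOf M₁ with hC
  have hAC : A₁ ≤ M₁ ⊓ M₂ := le_inf (coreIn_le_left _ _) (coreIn_le _ _)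
  have hLn : ∀ e ∈ C, ∀ x ∈ L, e * x * e⁻¹ ∈ L := fun e he x hx => by
    refine ⟨(le_normalizer_iff.1 (le_normalizer_coreIn M₁ M₂)) e e.2 x hx.1,
      (le_normalizer_iff.1 (le_normalizer_coreIn M₂ M₁)) e he x hx.2⟩
  have hLa : L ≤ a := fun x hx => by
    obtain ⟨y, hy, hyx⟩ : (x : G) ∈ A₁ := hx.1
    rwa [show y = x from Subtype.ext hyx] at hy
  have haC : a ≤ C := normalCore_le _
  set L' := L.subgroupOf a with hL'
  haveI : L'.Normal := ⟨fun x hx g => hLn g (haC g.2) x hx⟩
  have hidx : L'.index ∣ (d - 1).factorial := by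
    have h3 := card_dvd_inf_core M₂ M₁ A₁ hAC
    rw [h₂] at h3
    have e1 : Nat.card A₁ = Nat.card a := card_coreIn _ _
    have e2 : Nat.card (A₁ ⊓ B₁ : Subgroup G) = Nat.card L' := by
      rw [Nat.card_congr (subgroupOfEquivOfLe hLa).toEquiv,
        Nat.card_congr (subgroupOfEquivOfLe (inf_le_left.trans (hAC.trans inf_le_left))).toEquiv]
    rw [e1, e2, ← L'.card_mul_index, mul_comm] at h3
    exact Nat.dvd_of_mul_dvd_mul_right Nat.card_pos h3
  haveI : Fintype (M₁ ⧸ C) := Fintype.ofFinite _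
  let N : M₁ ⧸ C → Subgroup a := fun c =>
    L'.comap (MulAut.conjNormal c.out⁻¹ : MulAut a).toMonoidHom
  have hbound := index_iInf_dvd (Finset.univ : Finset (M₁ ⧸ C)) N (fun c => inferInstance)
    (m := (d - 1).factorial) (fun c => by
      rw [index_comap_of_surjective _ (MulEquiv.surjective _)]; exact hidx)
  have hcardC : (Finset.univ : Finset (M₁ ⧸ C)).card = d := by
    rw [Finset.card_univ, Fintype.card_eq_nat_card]; exact h₁
  rw [hcardC] at hbound
  have hcore : ((Finset.univ : Finset (M₁ ⧸ C)).inf N).map a.subtype = L.normalCore := by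
    apply le_antisymm
    · rintro _ ⟨x, hx, rfl⟩
      simp only [Finset.inf_eq_iInf, Finset.mem_univ, iInf_pos, SetLike.mem_coe, mem_iInf] at hx
      intro h
      obtain ⟨e, he⟩ : ∃ e : C, (h⁻¹ : M₁) = (QuotientGroup.mk h⁻¹ : M₁ ⧸ C).out * e := by
        refine ⟨⟨(QuotientGroup.mk h⁻¹ : M₁ ⧸ C).out⁻¹ * h⁻¹,
          QuotientGroup.eq.1 (QuotientGroup.out_eq' _)⟩, by simp⟩
      have := hx (QuotientGroup.mk h⁻¹ : M₁ ⧸ C)
      have h2 : (QuotientGroup.mk h⁻¹ : M₁ ⧸ C).out⁻¹ * (x : M₁) *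
          (QuotientGroup.mk h⁻¹ : M₁ ⧸ C).out ∈ L := by
        simpa [N, L', Subgroup.mem_subgroupOf, MulAut.conjNormal_apply] using this
      set u := (QuotientGroup.mk h⁻¹ : M₁ ⧸ C).out
      have h3 := hLn _ (inv_mem e.2) _ h2
      have h4 : h = (e : M₁)⁻¹ * u⁻¹ := by rw [← mul_inv_rev, ← he, inv_inv]
      show h * (x : M₁) * h⁻¹ ∈ L
      rw [h4]
      simpa [mul_assoc] using h3
    · intro x hx
      have hxL := normalCore_le _ hx
      refine ⟨⟨x, hLa hxL⟩, ?_, rfl⟩
      simp only [Finset.inf_eq_iInf, Finset.mem_univ, iInf_pos, SetLike.mem_coe, mem_iInf]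
      intro c
      have := hx c.out⁻¹
      simpa [N, L', Subgroup.mem_subgroupOf, MulAut.conjNormal_apply] using this
  rw [card_coreIn, card_coreIn, ← hcore, card_subtype,
    ← ((Finset.univ : Finset (M₁ ⧸ C)).inf N).card_mul_index, mul_comm]
  exact Nat.mul_dvd_mul_right hbound _

/-- Both bounds together. -/
theorem card_dvd_second (M₁ M₂ : Subgroup G) {d : ℕ} (h₁ : M₂.relIndex M₁ = d)
    (h₂ : M₁.relIndex M₂ = d) :
    Nat.card M₁ ∣ d.factorial * (d - 1).factorial ^ d *
      Nat.card (coreIn M₁ (coreIn M₁ M₂ ⊓ coreIn M₂ M₁)) := by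
  refine (h₁ ▸ card_dvd_core M₁ M₂).trans ?_
  rw [mul_assoc]
  exact Nat.mul_dvd_mul_left _ (card_first_dvd M₁ M₂ h₁ h₂)

section action

variable {Ω : Type*} [MulAction G Ω] [FaithfulSMul G Ω] [Finite Ω]

/-- The second core attached to a suborbit. -/
def secondCore (a b : Ω) : Subgroup (MulAction.stabilizer G a) :=
  ((coreIn (MulAction.stabilizer G a) (MulAction.stabilizer G b) ⊓
    coreIn (MulAction.stabilizer G b) (MulAction.stabilizer G a)).subgroupOf
      (MulAction.stabilizer G a)).normalCore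

theorem secondCore_fix (a b : Ω) (g : secondCore (G := G) a b) :
    ((g : MulAction.stabilizer G a) : G) • b = b :=
  MulAction.mem_stabilizer_iff.1 (coreIn_le _ _ (normalCore_le _ g.2).1)

variable (hprim : MulAction.IsPreprimitive G Ω) {a b : Ω} {d : ℕ}
  (hd : Nat.card (MulAction.orbit (MulAction.stabilizer G a) b) = d) (h2 : 2 ≤ d)

omit [FaithfulSMul G Ω] in
include hd h2 in
theorem ne_of_two_le : a ≠ b := by
  rintro rfl
  have : MulAction.orbit (MulAction.stabilizer G a) a = {a} := by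
    ext x
    constructor
    · rintro ⟨g, rfl⟩; exact MulAction.mem_stabilizer_iff.1 g.2
    · rintro rfl; exact MulAction.mem_orbit_self _
  rw [this, Nat.card_coe_set_eq, Set.ncard_singleton] at hd
  omega

include hprim hd h2 in
/-- Either the second core is a `p`-group and the generalized Fitting subgroup is a `p`-group,
or the stabiliser is bounded. -/
theorem dichotomy :
    (∃ p : ℕ, p.Prime ∧ IsPGroup p (secondCore (G := G) a b) ∧
      Cfsg.generalizedFittingSubgroup (MulAction.stabilizer G a) =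
        Cfsg.pCore p (MulAction.stabilizer G a) ∧
      Nat.card (MulAction.stabilizer G a) ∣
        d.factorial * (d - 1).factorial ^ d * Nat.card (secondCore (G := G) a b)) ∨
    Nat.card (MulAction.stabilizer G a) ∣ d.factorial * (d - 1).factorial ^ d := by
  have hab := ne_of_two_le hd h2
  haveI : Nontrivial Ω := ⟨⟨a, b, hab⟩⟩
  haveI := hprim.toIsPretransitive
  set M₁ := MulAction.stabilizer G a
  set M₂ := MulAction.stabilizer G b
  obtain ⟨g, hg⟩ := MulAction.exists_smul_eq G a b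
  have hconj : M₂ = M₁.map (MulAut.conj g).toMonoidHom := by
    show MulAction.stabilizer G b = _
    rw [← hg, MulAction.stabilizer_smul_eq_stabilizer_map_conj]
  have hr1 : M₂.relIndex M₁ = d := by
    show (M₂.subgroupOf M₁).index = d
    rw [show M₂.subgroupOf M₁ = MulAction.stabilizer M₁ b from rfl, MulAction.index_stabilizer, ← hd,
      Nat.card_coe_set_eq]
  have hcards : Nat.card M₂ = Nat.card M₁ := by
    rw [hconj]; exact card_map_of_injective (MulAut.conj g).injective
  have hr2 : M₁.relIndex M₂ = d := by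
    have e1 := card_mul_index (M₂.subgroupOf M₁)
    have e2 := card_mul_index (M₁.subgroupOf M₂)
    have e3 : Nat.card (M₂.subgroupOf M₁) = Nat.card (M₁.subgroupOf M₂) := by
      rw [← card_subtype, ← card_subtype, subgroupOf_map_subtype, subgroupOf_map_subtype, inf_comm]
    rw [show (M₂.subgroupOf M₁).index = d from hr1, e3, ← hcards, ← e2] at e1
    exact (Nat.eq_of_mul_eq_mul_left Nat.card_pos e1).symm
  have hbound1 := card_dvd_second M₁ M₂ hr1 hr2
  have hbound2 := card_dvd_second M₂ M₁ hr2 hr1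
  rw [inf_comm (coreIn M₂ M₁)] at hbound2
  by_cases hA : coreIn M₁ (coreIn M₁ M₂ ⊓ coreIn M₂ M₁) = ⊥
  · right; rw [hA] at hbound1; simpa only [card_bot, mul_one] using hbound1
  by_cases hB : coreIn M₂ (coreIn M₁ M₂ ⊓ coreIn M₂ M₁) = ⊥
  · right; rw [hB, hcards] at hbound2; simpa only [card_bot, mul_one] using hbound2
  left
  have hmax : IsCoatom M₁ := (MulAction.isCoatom_stabilizer_iff_preprimitive G a).2 hprim
  have hne : M₁ ≠ M₂ := by
    intro e
    apply hab
    have h1 : MulAction.orbit M₁ b = {b} := by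
      ext x
      constructor
      · rintro ⟨h, rfl⟩
        have hh : (h : G) ∈ M₂ := e ▸ h.2
        exact MulAction.mem_stabilizer_iff.1 hh
      · rintro rfl; exact MulAction.mem_orbit_self _
    rw [h1, Nat.card_coe_set_eq, Set.ncard_singleton] at hd
    omega
  have hcore : M₁.normalCore = ⊥ := by
    rw [eq_bot_iff]
    intro x hx
    refine mem_bot.2 (FaithfulSMul.eq_of_smul_eq_smul (α := Ω) fun ω => ?_)
    obtain ⟨h, rfl⟩ := MulAction.exists_smul_eq G a ω
    rw [one_smul]
    have := MulAction.mem_stabilizer_iff.1 (hx h⁻¹)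
    rw [inv_inv, mul_smul, mul_smul] at this
    simpa using congrArg (h • ·) this
  let AB : ℕ → Subgroup G × Subgroup G := fun n =>
    Nat.rec (M₁, M₂) (fun _ p => (coreIn M₁ (p.1 ⊓ p.2), coreIn M₂ (p.1 ⊓ p.2))) n
  have hA1 : (AB 1).1 = coreIn M₁ M₂ := by
    show coreIn M₁ (M₁ ⊓ M₂) = _
    rw [coreIn, inf_subgroupOf_left]; rfl
  have hB1 : (AB 1).2 = coreIn M₂ M₁ := by
    show coreIn M₂ (M₁ ⊓ M₂) = _
    rw [inf_comm, coreIn, inf_subgroupOf_left]; rfl
  have hA2 : (AB 2).1 = coreIn M₁ (coreIn M₁ M₂ ⊓ coreIn M₂ M₁) := by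
    show coreIn M₁ ((AB 1).1 ⊓ (AB 1).2) = _
    rw [hA1, hB1]
  have hB2 : (AB 2).2 = coreIn M₂ (coreIn M₁ M₂ ⊓ coreIn M₂ M₁) := by
    show coreIn M₂ ((AB 1).1 ⊓ (AB 1).2) = _
    rw [hA1, hB1]
  obtain ⟨p, hp, hP, hF, -⟩ := Cfsg.Agent.S5752.result M₁ M₂ hmax g hconj hne hcore
    (fun n => (AB n).1) (fun n => (AB n).2) rfl rfl (fun _ => rfl) (fun _ => rfl)
    (by show (AB 2).1 ≠ ⊥; rw [hA2]; exact hA) (by show (AB 2).2 ≠ ⊥; rw [hB2]; exact hB)
  refine ⟨p, hp, ?_, hF, ?_⟩
  · have h3 : IsPGroup p (coreIn M₁ (coreIn M₁ M₂ ⊓ coreIn M₂ M₁)) := hA2 ▸ hP.to_le le_sup_left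
    exact h3.of_equiv (equivMapOfInjective _ M₁.subtype M₁.subtype_injective).symm
  · rw [card_coreIn] at hbound1; exact hbound1

end action

end Cfsg.Agent.Suborbit
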