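import Mathlib

/-!
Shift sequences of involutions: `e (i+1) = y (e i) y⁻¹` with every interval of length `L ≤ n`
generating a group of order `2^L` (Tutte, Sims, Glauberman).
-/

set_option autoImplicit false

namespace Cfsg.Agent.Suborbit

open Subgroup

variable {G : Type*} [Group G]

/-- The subgroup generated by `L` consecutive terms from `a`. -/
def iv (e : ℤ → G) (a : ℤ) (L : ℕ) : Subgroup G := closure (e '' Set.Ico a (a + L))

/-- A shift sequence. -/
structure Shift (e : ℤ → G) (y : G) (n : ℕ) : Prop where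
  shift : ∀ i, y * e i * y⁻¹ = e (i + 1)
  card : ∀ (a : ℤ) (L : ℕ), L ≤ n → Nat.card (iv e a L) = 2 ^ L

variable {e : ℤ → G} {y : G} {n : ℕ}

theorem mem_iv {a : ℤ} {L : ℕ} {m : ℤ} (h1 : a ≤ m) (h2 : m < a + L) : e m ∈ iv e a L :=
  subset_closure ⟨m, ⟨h1, h2⟩, rfl⟩

theorem iv_le {a b : ℤ} {L M : ℕ} (h1 : b ≤ a) (h2 : a + L ≤ b + M) : iv e a L ≤ iv e b M :=
  closure_mono (Set.image_mono (Set.Ico_subset_Ico h1 h2))

theorem iv_zero (a : ℤ) : iv e a 0 = ⊥ := by
  simp [iv]

theorem iv_one (a : ℤ) : iv e a 1 = zpowers (e a) := by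
  rw [iv, zpowers_eq_closure]
  congr 1
  ext g
  constructor
  · rintro ⟨m, ⟨h1, h2⟩, rfl⟩
    rw [show m = a by push_cast at h2; omega]
    rfl
  · rintro rfl
    exact ⟨a, ⟨le_rfl, by push_cast; omega⟩, rfl⟩

theorem commute_of_mem_closure {S : Set G} {g h : G} (hS : ∀ u ∈ S, Commute g u)
    (hh : h ∈ closure S) : Commute g h := by
  induction hh using closure_induction with
  | mem u hu => exact hS u hu
  | one => exact Commute.one_right _
  | mul u v _ _ hu hv => exact hu.mul_right hv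
  | inv u _ hu => exact hu.inv_right

theorem commute_iv {a : ℤ} {L : ℕ} {g h : G} (hh : h ∈ iv e a L)
    (hg : ∀ m, a ≤ m → m < a + L → Commute g (e m)) : Commute g h :=
  commute_of_mem_closure (S := e '' Set.Ico a (a + L))
    (fun u hu => by obtain ⟨m, hm, rfl⟩ := hu; exact hg m hm.1 hm.2) hh

variable (hs : Shift e y n)
include hs

theorem Shift.mul_self (hn : 1 ≤ n) (i : ℤ) : e i * e i = 1 := by
  have h := hs.card i 1 hn
  rw [iv_one, Nat.card_zpowers, pow_one] at h
  rw [← sq, ← h, pow_orderOf_eq_one]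

theorem Shift.ne_one (hn : 1 ≤ n) (i : ℤ) : e i ≠ 1 := fun h1 => by
  have h := hs.card i 1 hn
  rw [iv_one, h1, Nat.card_zpowers, orderOf_one] at h
  norm_num at h

theorem Shift.commute_shift {i j : ℤ} (h : Commute (e i) (e j)) (k : ℤ) :
    Commute (e (i + k)) (e (j + k)) := by
  induction k using Int.induction_on with
  | zero => simpa using h
  | succ k ih =>
    rw [← add_assoc, ← add_assoc, ← hs.shift, ← hs.shift]
    simpa only [MulAut.conj_apply] using ih.map (MulAut.conj y)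
  | pred k ih =>
    have hd : ∀ m : ℤ, y⁻¹ * e m * y = e (m - 1) := fun m => by
      have h1 := hs.shift (m - 1)
      rw [sub_add_cancel] at h1
      rw [← h1]; group
    rw [← add_sub_assoc, ← add_sub_assoc, ← hd, ← hd]
    simpa [MulAut.conj_apply] using ih.map (MulAut.conj y⁻¹)

theorem Shift.index_two [Finite G] {a : ℤ} {L : ℕ} (hL : L + 1 ≤ n) {b : ℤ} (h1 : a ≤ b)
    (h2 : b ≤ a + 1) : ((iv e b L).subgroupOf (iv e a (L + 1))).index = 2 := by
  have hle : iv e b L ≤ iv e a (L + 1) := iv_le h1 (by push_cast; omega)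
  have h := card_mul_index ((iv e b L).subgroupOf (iv e a (L + 1)))
  rw [Nat.card_congr (subgroupOfEquivOfLe hle).toEquiv, hs.card b L (by omega),
    hs.card a (L + 1) hL, pow_succ] at h
  exact Nat.eq_of_mul_eq_mul_left (Nat.two_pow_pos L) h

/-- Removing the last generator. -/
theorem Shift.mul_top [Finite G] {a : ℤ} {L : ℕ} (hL : L + 1 ≤ n) {g : G} (hg : g ∈ iv e a (L + 1))
    (hgn : g ∉ iv e a L) : g * e (a + L) ∈ iv e a L := by
  have he : e (a + L) ∈ iv e a (L + 1) := mem_iv (by omega) (by push_cast; omega)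
  have hne : e (a + L) ∉ iv e a L := fun h => by
    have hle : iv e a (L + 1) ≤ iv e a L := (closure_le _).2 (by
      rintro _ ⟨m, ⟨h1, h2⟩, rfl⟩
      by_cases hm : m = a + L
      · exact hm ▸ h
      · exact mem_iv h1 (by push_cast at h2; omega))
    have := card_le_of_le hle
    rw [hs.card a (L + 1) hL, hs.card a L (by omega), pow_succ] at this
    have := Nat.two_pow_pos L
    omega
  have := mul_mem_iff_of_index_two (hs.index_two hL le_rfl (by omega)) (a := ⟨g, hg⟩) (b := ⟨_, he⟩)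
  simp only [mem_subgroupOf, hgn, hne, iff_self, iff_true] at this
  exact this

/-- Removing the first generator. -/
theorem Shift.mul_bot [Finite G] {a : ℤ} {L : ℕ} (hL : L + 1 ≤ n) {g : G} (hg : g ∈ iv e a (L + 1))
    (hgn : g ∉ iv e (a + 1) L) : e a * g ∈ iv e (a + 1) L := by
  have he : e a ∈ iv e a (L + 1) := mem_iv le_rfl (by push_cast; omega)
  have hne : e a ∉ iv e (a + 1) L := fun h => by
    have hle : iv e a (L + 1) ≤ iv e (a + 1) L := (closure_le _).2 (by
      rintro _ ⟨m, ⟨h1, h2⟩, rfl⟩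
      by_cases hm : m = a
      · exact hm ▸ h
      · exact mem_iv (by omega) (by push_cast at h2; omega))
    have := card_le_of_le hle
    rw [hs.card a (L + 1) hL, hs.card (a + 1) L (by omega), pow_succ] at this
    have := Nat.two_pow_pos L
    omega
  have := mul_mem_iff_of_index_two (hs.index_two hL (by omega : a ≤ a + 1) le_rfl) (a := ⟨_, he⟩) (b := ⟨g, hg⟩)
  simp only [mem_subgroupOf, hgn, hne, iff_self, iff_true] at this
  exact this

/-- The commutator of two generators lies strictly between them. -/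
theorem Shift.commutator_mem [Finite G] {a : ℤ} {L : ℕ} (hL : L + 2 ≤ n) :
    e a * e (a + L + 1) * (e a)⁻¹ * (e (a + L + 1))⁻¹ ∈ iv e (a + 1) L := by
  set K := iv e a (L + 2)
  set H1 := (iv e a (L + 1)).subgroupOf K with hH1
  set H2 := (iv e (a + 1) (L + 1)).subgroupOf K with hH2
  haveI : H1.Normal := normal_of_index_eq_two (hs.index_two (L := L + 1) hL le_rfl (by omega))
  haveI : H2.Normal := normal_of_index_eq_two (hs.index_two (L := L + 1) hL (by omega : a ≤ a + 1) le_rfl)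
  have hx : e a ∈ K := mem_iv le_rfl (by push_cast; omega)
  have hz : e (a + L + 1) ∈ K := mem_iv (by omega) (by push_cast; omega)
  have x1 : (⟨e a, hx⟩ : K) ∈ H1 := mem_iv le_rfl (by push_cast; omega)
  have z2 : (⟨_, hz⟩ : K) ∈ H2 := mem_iv (by omega) (by push_cast; omega)
  set X : K := ⟨e a, hx⟩
  set Z : K := ⟨_, hz⟩
  have m1 : X * Z * X⁻¹ * Z⁻¹ ∈ H1 := by
    have : X * (Z * X⁻¹ * Z⁻¹) ∈ H1 := mul_mem x1 (Normal.conj_mem inferInstance _ (inv_mem x1) Z)
    simpa [mul_assoc] using this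
  have m2 : X * Z * X⁻¹ * Z⁻¹ ∈ H2 :=
    mul_mem (Normal.conj_mem inferInstance _ z2 X) (inv_mem z2)
  have hle : iv e (a + 1) L ≤ iv e a (L + 1) ⊓ iv e (a + 1) (L + 1) :=
    le_inf (iv_le (by omega) (by push_cast; omega)) (iv_le le_rfl (by push_cast; omega))
  have heq : iv e (a + 1) L = iv e a (L + 1) ⊓ iv e (a + 1) (L + 1) := by
    apply eq_of_le_of_card_ge hle
    obtain ⟨k, hk, hd⟩ := (Nat.dvd_prime_pow Nat.prime_two).1
      (hs.card a (L + 1) (by omega) ▸ card_dvd_of_le (inf_le_left :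
        iv e a (L + 1) ⊓ iv e (a + 1) (L + 1) ≤ _))
    rw [hd, hs.card (a + 1) L (by omega)]
    refine Nat.pow_le_pow_right two_pos ?_
    by_contra hk2
    have hkL : k = L + 1 := by omega
    subst hkL
    have e1 := eq_of_le_of_card_ge (inf_le_left : iv e a (L + 1) ⊓ iv e (a + 1) (L + 1) ≤ _)
      (by rw [hd, hs.card a (L + 1) (by omega)])
    have e2 : iv e a (L + 1) ≤ iv e (a + 1) (L + 1) := inf_eq_left.1 e1
    have h3 : iv e a (L + 2) ≤ iv e (a + 1) (L + 1) := (closure_le _).2 (by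
      rintro _ ⟨m, ⟨h1, h2⟩, rfl⟩
      by_cases hm : m = a
      · exact hm ▸ e2 (mem_iv le_rfl (by push_cast; omega))
      · exact mem_iv (by omega) (by push_cast at h2 ⊢; omega))
    have := card_le_of_le h3
    rw [hs.card a (L + 2) hL, hs.card (a + 1) (L + 1) (by omega), pow_succ 2 (L + 1)] at this
    have := Nat.two_pow_pos (L + 1)
    omega
  rw [heq]
  exact ⟨m1, m2⟩

/-- A shortest interval inside `[lo, hi)` containing a given element. -/
theorem Shift.exists_minimal {lo : ℤ} {M : ℕ} {g : G} (hg : g ∈ iv e lo M) (hg1 : g ≠ 1) :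
    ∃ (a : ℤ) (L : ℕ), lo ≤ a ∧ a + L + 1 ≤ lo + M ∧ g ∈ iv e a (L + 1) ∧
      g ∉ iv e a L ∧ g ∉ iv e (a + 1) L := by
  classical
  have hM : M ≠ 0 := fun h => by
    rw [h, iv_zero, mem_bot] at hg
    exact hg1 hg
  have hex : ∃ L : ℕ, ∃ a : ℤ, lo ≤ a ∧ a + L + 1 ≤ lo + M ∧ g ∈ iv e a (L + 1) :=
    ⟨M - 1, lo, le_rfl, by omega, by rwa [Nat.sub_add_cancel (by omega)]⟩
  obtain ⟨a, h1, h2, h3⟩ := Nat.find_spec hex
  have key : ∀ b : ℤ, a ≤ b → b ≤ a + 1 → g ∉ iv e b (Nat.find hex) := by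
    intro b hb1 hb2 hmem
    rcases hc : Nat.find hex with _ | L
    · rw [hc, iv_zero, mem_bot] at hmem
      exact hg1 hmem
    · exact Nat.find_min hex (show L < Nat.find hex by omega)
        ⟨b, by omega, by omega, by rw [hc] at hmem; exact hmem⟩
  exact ⟨a, _, h1, h2, h3, key a le_rfl (by omega), key (a + 1) (by omega) le_rfl⟩

/-- `l` is the commuting width. -/
def Width (e : ℤ → G) (n l : ℕ) : Prop :=
  1 ≤ l ∧ l ≤ n ∧ (∀ i j : ℤ, i - j < l → j - i < l → Commute (e i) (e j)) ∧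
    (l = n ∨ ∀ i : ℤ, ¬ Commute (e i) (e (i + l)))

theorem Shift.exists_width (hn : 1 ≤ n) : ∃ l, Width e n l := by
  classical
  have hex : ∃ d : ℕ, n ≤ d ∨ ¬ Commute (e 0) (e d) := ⟨n, Or.inl le_rfl⟩
  have h1 : 1 ≤ Nat.find hex := by
    refine Nat.one_le_iff_ne_zero.2 fun h0 => ?_
    rcases Nat.find_spec hex with h | h
    · omega
    · rw [h0, Nat.cast_zero] at h
      exact h (Commute.refl _)
  have hcom : ∀ d : ℕ, d < Nat.find hex → ∀ i : ℤ, Commute (e i) (e (i + d)) := fun d hd i => by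
    have := Nat.find_min hex hd
    simp only [not_or, not_not] at this
    simpa [add_comm] using hs.commute_shift this.2 i
  refine ⟨Nat.find hex, h1, Nat.find_le (Or.inl le_rfl), fun i j hij hji => ?_, ?_⟩
  · rcases le_total i j with h | h
    · have := hcom (j - i).toNat (by omega) i
      rwa [Int.toNat_of_nonneg (by omega), add_sub_cancel] at this
    · have := hcom (i - j).toNat (by omega) j
      rw [Int.toNat_of_nonneg (by omega), add_sub_cancel] at this
      exact this.symm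
  · rcases Nat.find_spec hex with h | h
    · exact Or.inl (le_antisymm (Nat.find_le (Or.inl le_rfl)) h)
    · refine Or.inr fun i hi => h ?_
      simpa using hs.commute_shift hi (-i)

variable [Finite G] {l : ℕ} (hw : Width e n l)
include hw

theorem Shift.top_not_commute (hl : l < n) {a : ℤ} {L : ℕ} (hL : L + 1 ≤ n) {g : G}
    (hg : g ∈ iv e a (L + 1)) (hgn : g ∉ iv e a L) {k : ℤ}
    (hk : k + l = a + L ∨ k = a + L + l)
    (hm : ∀ m, a ≤ m → m < a + L → k - m < l ∧ m - k < l) : ¬ Commute g (e k) := by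
  intro hc
  have h1 := hs.mul_top hL hg hgn
  have h2 : Commute (e k) (g * e (a + L)) :=
    commute_iv h1 fun m ha hb => hw.2.2.1 _ _ (hm m ha hb).1 (hm m ha hb).2
  have h3 : Commute (e k) (e (a + L)) := by
    have := hc.symm.inv_right.mul_right h2
    simpa using this
  have hne := hw.2.2.2.resolve_left hl.ne
  rcases hk with h | h
  · exact hne k (h ▸ h3)
  · exact hne (a + L) (h ▸ h3.symm)

theorem Shift.bot_not_commute (hl : l < n) {a : ℤ} {L : ℕ} (hL : L + 1 ≤ n) {g : G}
    (hg : g ∈ iv e a (L + 1)) (hgn : g ∉ iv e (a + 1) L) {k : ℤ}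
    (hk : k + l = a ∨ k = a + l)
    (hm : ∀ m, a + 1 ≤ m → m < a + 1 + L → k - m < l ∧ m - k < l) : ¬ Commute g (e k) := by
  intro hc
  have h1 := hs.mul_bot hL hg hgn
  have h2 : Commute (e k) (e a * g) :=
    commute_iv h1 fun m ha hb => hw.2.2.1 _ _ (hm m ha hb).1 (hm m ha hb).2
  have h3 : Commute (e k) (e a) := by
    have := h2.mul_right hc.symm.inv_right
    simpa [mul_assoc] using this
  have hne := hw.2.2.2.resolve_left hl.ne
  rcases hk with h | h
  · exact hne k (h ▸ h3)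
  · exact hne a (h ▸ h3.symm)

theorem Shift.two_mul_width (hl : l < n) : n < 2 * l := by
  by_contra hcon
  have : Fact (Nat.Prime 2) := ⟨Nat.prime_two⟩
  have hcard : Nat.card (iv e 0 (2 * l)) = 2 ^ (2 * l) := hs.card 0 _ (by omega)
  have hp : IsPGroup 2 (iv e 0 (2 * l)) := IsPGroup.of_card hcard
  have : Nontrivial (iv e 0 (2 * l)) := Finite.one_lt_card_iff_nontrivial.1 (by
    rw [hcard]; exact Nat.one_lt_pow (by have := hw.1; omega) one_lt_two)
  have := hp.center_nontrivial
  obtain ⟨⟨z, hz⟩, hz1⟩ := exists_ne (1 : center (iv e 0 (2 * l)))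
  have hzc : ∀ k : ℤ, 0 ≤ k → k < (2 * l : ℕ) → Commute (z : G) (e k) := fun k h1 h2 => by
    have := (mem_center_iff.1 hz) ⟨e k, mem_iv h1 (by simpa using h2)⟩
    exact (congrArg Subtype.val this).symm
  have hne : (z : G) ≠ 1 := fun h => hz1 (Subtype.ext (Subtype.ext h))
  obtain ⟨a, L, h1, h2, h3, h4, h5⟩ := hs.exists_minimal z.2 hne
  push_cast at h2
  by_cases hj : a + L < l
  · exact hs.bot_not_commute hw hl (by omega) h3 h5 (Or.inr rfl)
      (fun m ha hb => ⟨by omega, by omega⟩) (hzc _ (by omega) (by push_cast; omega))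
  · exact hs.top_not_commute hw hl (by omega) h3 h4 (k := a + L - l) (Or.inl (by ring))
      (fun m ha hb => ⟨by omega, by omega⟩) (hzc _ (by omega) (by push_cast; omega))

/-- The basic commutator `[e 0, e l]` lies in `[n-l, 2l-n]` (Glauberman). -/
theorem Shift.commutator_interval (hl : l < n) :
    2 * n ≤ 3 * l ∧ e 0 * e l * (e 0)⁻¹ * (e l)⁻¹ ∈ iv e ((n : ℤ) - l) (3 * l + 1 - 2 * n) := by
  have h2l := hs.two_mul_width hw hl
  have hl1 := hw.1
  set c := e 0 * e l * (e 0)⁻¹ * (e l)⁻¹ with hc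
  have hne := hw.2.2.2.resolve_left hl.ne
  have hc1 : c ≠ 1 := fun h => by
    refine hne 0 ?_
    rw [zero_add]
    show e 0 * e l = e l * e 0
    have h' := mul_inv_eq_one.1 h
    exact mul_inv_eq_iff_eq_mul.1 h'
  have hmem : c ∈ iv e 1 (l - 1) := by
    have := hs.commutator_mem (a := 0) (L := l - 1) (by omega)
    rwa [zero_add, zero_add, show (((l - 1 : ℕ) : ℤ) + 1) = l by omega] at this
  have base : ∀ m : ℤ, 0 ≤ m → m ≤ l → Commute c (e m) := fun m hm0 hml =>
    (commute_iv hmem fun i hi1 hi2 =>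
      hw.2.2.1 m i (by omega) (by omega)).symm
  have up : ∀ k : ℕ, k < n → ∀ m : ℤ, 0 ≤ m → m ≤ k → Commute c (e m) := by
    intro k
    induction k with
    | zero => intro _ m h0 h1; exact base m h0 (by omega)
    | succ k ih =>
      intro hk m h0 h1
      by_cases hmk : m ≤ k
      · exact ih (by omega) m h0 hmk
      by_cases hkl : k + 1 ≤ l
      · exact base m h0 (by omega)
      obtain rfl : m = (k : ℤ) + 1 := by omega
      set d := e 0 * e ((k : ℤ) + 1) * (e 0)⁻¹ * (e ((k : ℤ) + 1))⁻¹ with hd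
      have hdm : d ∈ iv e 1 k := by
        have := hs.commutator_mem (a := 0) (L := k) (by omega)
        rwa [zero_add, zero_add] at this
      have hdc : Commute c d := commute_iv hdm fun i hi1 hi2 => ih (by omega) i (by omega) (by omega)
      have hdl : Commute (e l) d := commute_iv hdm fun i hi1 hi2 => hw.2.2.1 _ _ (by omega) (by omega)
      have hel : Commute (e ((k : ℤ) + 1)) (e l) := hw.2.2.1 _ _ (by omega) (by omega)
      have e1 : e ((k : ℤ) + 1) * e 0 * (e ((k : ℤ) + 1))⁻¹ = d⁻¹ * e 0 := by rw [hd]; group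
      have e2 : e ((k : ℤ) + 1) * e l * (e ((k : ℤ) + 1))⁻¹ = e l := by rw [hel.eq]; group
      have e3 : e ((k : ℤ) + 1) * c * (e ((k : ℤ) + 1))⁻¹ = c := by
        have step : e ((k : ℤ) + 1) * c * (e ((k : ℤ) + 1))⁻¹ =
            (e ((k : ℤ) + 1) * e 0 * (e ((k : ℤ) + 1))⁻¹) * (e ((k : ℤ) + 1) * e l * (e ((k : ℤ) + 1))⁻¹) *
            (e ((k : ℤ) + 1) * e 0 * (e ((k : ℤ) + 1))⁻¹)⁻¹ * (e ((k : ℤ) + 1) * e l * (e ((k : ℤ) + 1))⁻¹)⁻¹ := by
          rw [hc]; group
        rw [step, e1, e2]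
        calc d⁻¹ * e 0 * e l * (d⁻¹ * e 0)⁻¹ * (e l)⁻¹
            = d⁻¹ * (e 0 * e l * (e 0)⁻¹ * (e l)⁻¹) * (e l * d * (e l)⁻¹) := by group
          _ = d⁻¹ * c * d := by rw [hdl.eq, ← hc]; group
          _ = c := by rw [mul_assoc, hdc.eq]; group
      exact (show e ((k : ℤ) + 1) * c = c * e ((k : ℤ) + 1) from mul_inv_eq_iff_eq_mul.1 e3).symm
  have down : ∀ k : ℕ, k + l < n → ∀ m : ℤ, -(k : ℤ) ≤ m → m ≤ l → Commute c (e m) := by
    intro k
    induction k with
    | zero => intro _ m h0 h1; exact base m (by omega) h1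
    | succ k ih =>
      intro hk m h0 h1
      by_cases hmk : -(k : ℤ) ≤ m
      · exact ih (by omega) m hmk h1
      obtain rfl : m = -((k : ℤ) + 1) := by omega
      set p := -((k : ℤ) + 1) with hp
      set d := e p * e l * (e p)⁻¹ * (e l)⁻¹ with hd
      have hdm : d ∈ iv e (p + 1) (k + l) := by
        have := hs.commutator_mem (a := p) (L := k + l) (by omega)
        rwa [show p + ((k + l : ℕ) : ℤ) + 1 = l by omega] at this
      have hdc : Commute c d := commute_iv hdm fun i hi1 hi2 => ih (by omega) i (by omega) (by omega)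
      have hd0 : Commute (e 0) d := commute_iv hdm fun i hi1 hi2 => hw.2.2.1 _ _ (by omega) (by omega)
      have he0 : Commute (e p) (e 0) := hw.2.2.1 _ _ (by omega) (by omega)
      have e1 : e p * e l * (e p)⁻¹ = d * e l := by rw [hd]; group
      have e2 : e p * e 0 * (e p)⁻¹ = e 0 := by rw [he0.eq]; group
      have e3 : e p * c * (e p)⁻¹ = c := by
        have step : e p * c * (e p)⁻¹ = (e p * e 0 * (e p)⁻¹) * (e p * e l * (e p)⁻¹) *
            (e p * e 0 * (e p)⁻¹)⁻¹ * (e p * e l * (e p)⁻¹)⁻¹ := by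
          rw [hc]; group
        rw [step, e1, e2]
        calc e 0 * (d * e l) * (e 0)⁻¹ * (d * e l)⁻¹
            = (e 0 * d * (e 0)⁻¹) * (e 0 * e l * (e 0)⁻¹ * (e l)⁻¹) * d⁻¹ := by group
          _ = d * c * d⁻¹ := by rw [hd0.eq, ← hc]; group
          _ = c := by rw [← hdc.eq]; group
      exact (show e p * c = c * e p from mul_inv_eq_iff_eq_mul.1 e3).symm
  obtain ⟨a, L, h1, h2, h3, h4, h5⟩ := hs.exists_minimal hmem hc1
  rw [Nat.cast_sub hl1, Nat.cast_one] at h2
  have hlo : (n : ℤ) - l ≤ a := by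
    by_contra hh
    exact hs.bot_not_commute hw hl (by omega) h3 h5 (Or.inr rfl) (fun m ha hb => ⟨by omega, by omega⟩)
      (up (n - 1) (by omega) (a + l) (by omega) (by omega))
  have hhi : a + L ≤ 2 * (l : ℤ) - n := by
    by_contra hh
    exact hs.top_not_commute hw hl (by omega) h3 h4 (k := a + L - l) (Or.inl (by ring))
      (fun m ha hb => ⟨by omega, by omega⟩) (down (n - 1 - l) (by omega) _ (by omega) (by omega))
  refine ⟨by omega, iv_le hlo ?_ h3⟩
  push_cast [Nat.cast_sub (show 2 * n ≤ 3 * l + 1 by omega)]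
  omega

end Cfsg.Agent.Suborbit
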