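import Cfsg.Agent.Lib.Suborbit.CubicSetup
import Cfsg.Agent.Lib.Suborbit.CubicStructure

/-!
Sims' theorem: the point stabiliser of a primitive group with a suborbit of length 3.
-/

set_option autoImplicit false

namespace Cfsg.Agent.Suborbit

open Subgroup

variable {G Ω : Type*} [Group G] [Finite G] [MulAction G Ω] [FaithfulSMul G Ω] [Finite Ω]

/-- Sims' theorem with the order exponent. -/
theorem sims_three (hprim : MulAction.IsPreprimitive G Ω) (a b : Ω)
    (h3 : Nat.card (MulAction.orbit (MulAction.stabilizer G a) b) = 3) :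
    (∃ k : ℕ, k ≤ 4 ∧ Nat.card (MulAction.stabilizer G a) = 2 ^ k * 3) ∧
    (Nonempty (MulAction.stabilizer G a ≃* Multiplicative (ZMod 3)) ∨
      Nonempty (MulAction.stabilizer G a ≃* Equiv.Perm (Fin 3)) ∨
      Nonempty (MulAction.stabilizer G a ≃* DihedralGroup 6) ∨
      Nonempty (MulAction.stabilizer G a ≃* Equiv.Perm (Fin 4)) ∨
      Nonempty (MulAction.stabilizer G a ≃* Equiv.Perm (Fin 4) × Multiplicative (ZMod 2))) := by
  haveI : Fact (Nat.Prime 3) := ⟨Nat.prime_three⟩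
  rcases exists_cub hprim a b h3 with hA | ⟨x, s, h⟩
  · exact ⟨⟨0, by norm_num, by rw [hA]; norm_num⟩, Or.inl ⟨mulEquivOfPrimeCardEq (p := 3) hA
      (by rw [Nat.card_congr Multiplicative.toAdd, Nat.card_zmod])⟩⟩
  obtain ⟨n, e, hn1, hs, hC0, hC⟩ := h.exists_shift
  obtain ⟨hn4, m, hw, hm⟩ := h.n_le_four hs hC0 hn1
  refine ⟨⟨n, hn4, by rw [h.cardA, hC, mul_comm]⟩, ?_⟩
  right
  rcases hm with ⟨hn2, rfl⟩ | ⟨hn3, hm⟩
  · rcases (show m = 1 ∨ m = 2 by omega) with hv | hv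
    · exact Or.inl (h.structure_one hs hC0 hn1 hv)
    · exact Or.inr (Or.inl (h.structure_two hs hC0 hn1 hw hv hv))
  · rcases (show n = 3 ∨ n = 4 by omega) with hv | hv
    · exact Or.inr (Or.inr (Or.inl (h.structure_three hs hC0 hn1 hw hn3 hn4 hm hv)))
    · exact Or.inr (Or.inr (Or.inr (h.structure_four hs hC0 hn1 hw hn3 hn4 hm hv)))

end Cfsg.Agent.Suborbit
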